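import Cfsg.Agent.Lib.S4WreathLocal.Reps
import Cfsg.Agent.Lib.Transfer.Thompson

/-!
# The centraliser of the central involution normalises `U × U`
-/

set_option autoImplicit false
set_option linter.style.haveILetI false
set_option linter.unusedSectionVars false

namespace Cfsg.Agent.S4WreathLocal

open Subgroup Cfsg.Agent

/-- The elements of `K` acting trivially on `X` modulo `P`. -/
def stab {G : Type*} [Group G] (K X P : Subgroup G) (hP : K ≤ normalizer (P : Set G)) : Subgroup G where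
  carrier := {c | c ∈ K ∧ ∀ x ∈ X, x * c * x⁻¹ * c⁻¹ ∈ P}
  one_mem' := ⟨K.one_mem, fun x _ => by simpa using P.one_mem⟩
  mul_mem' := fun {c d} hc hd => ⟨K.mul_mem hc.1 hd.1, fun x hx => by
    have h2 := (mem_normalizer_iff.1 (hP hc.1) _).1 (hd.2 x hx)
    rw [show x * (c * d) * x⁻¹ * (c * d)⁻¹ =
      (x * c * x⁻¹ * c⁻¹) * (c * (x * d * x⁻¹ * d⁻¹) * c⁻¹) by group]
    exact P.mul_mem (hc.2 x hx) h2⟩
  inv_mem' := fun {c} hc => ⟨K.inv_mem hc.1, fun x hx => by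
    have h2 := (mem_normalizer_iff.1 (hP (K.inv_mem hc.1)) _).1 (P.inv_mem (hc.2 x hx))
    rw [show x * c⁻¹ * x⁻¹ * c⁻¹⁻¹ = c⁻¹ * (x * c * x⁻¹ * c⁻¹)⁻¹ * c⁻¹⁻¹ by group]
    exact h2⟩

theorem mem_stab {G : Type*} [Group G] {K X P : Subgroup G} {hP : K ≤ normalizer (P : Set G)} {c : G} :
    c ∈ stab K X P hP ↔ c ∈ K ∧ ∀ x ∈ X, x * c * x⁻¹ * c⁻¹ ∈ P := Iff.rfl

theorem le_normalizer_stab {G : Type*} [Group G] {K X P H : Subgroup G}
    {hP : K ≤ normalizer (P : Set G)} (hHK : H ≤ normalizer (K : Set G))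
    (hHX : H ≤ normalizer (X : Set G)) (hHP : H ≤ normalizer (P : Set G)) :
    H ≤ normalizer (stab K X P hP : Set G) := by
  rw [le_normalizer_iff]
  intro h hh c hc
  refine ⟨(mem_normalizer_iff.1 (hHK hh) c).1 hc.1, fun x hx => ?_⟩
  have hx' : h⁻¹ * x * h⁻¹⁻¹ ∈ X := (mem_normalizer_iff.1 (hHX (H.inv_mem hh)) x).1 hx
  have h2 := (mem_normalizer_iff.1 (hHP hh) _).1 (hc.2 _ hx')
  rwa [show h * (h⁻¹ * x * h⁻¹⁻¹ * c * (h⁻¹ * x * h⁻¹⁻¹)⁻¹ * c⁻¹) * h⁻¹ =
    x * (h * c * h⁻¹) * x⁻¹ * (h * c * h⁻¹)⁻¹ by group] at h2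

theorem centralizer_normalizes {G : Type*} [Group G] {H X : Subgroup G}
    (hHX : H ≤ normalizer (X : Set G)) : H ≤ normalizer (centralizer (X : Set G) : Set G) :=
  hHX.trans (Balance.normalizer_le_normalizer_centralizer _)

theorem inf_normalizes {G : Type*} [Group G] {H A B : Subgroup G} (hA : H ≤ normalizer (A : Set G))
    (hB : H ≤ normalizer (B : Set G)) : H ≤ normalizer ((A ⊓ B : Subgroup G) : Set G) := by
  rw [le_normalizer_iff] at hA hB ⊢
  exact fun h hh x hx => ⟨hA h hh x hx.1, hB h hh x hx.2⟩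

namespace Cfg

variable {G : Type*} [Group G] [Finite G] (S : Cfg G)

theorem isPGroup_stab {K X P : Subgroup G} {hP : K ≤ normalizer (P : Set G)} (h2 : IsPGroup 2 ↥P)
    (hKP : ∀ u ∈ K, Odd (orderOf u) → ∀ p ∈ P, Commute u p)
    (hKX : ∀ u ∈ K, Odd (orderOf u) → (∀ x ∈ X, Commute u x) → u = 1) :
    IsPGroup 2 ↥(stab K X P hP) := by
  haveI := Fact.mk Nat.prime_two
  refine Balance.isPGroup_of_forall_coprime_eq_one fun u hu hco => ?_
  have hodd : Odd (orderOf u) := Nat.coprime_two_right.1 hco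
  refine hKX u hu.1 hodd fun x hx => commute_of_series h2 hodd (hKP u hu.1 hodd) ?_
  rw [show u * x * u⁻¹ * x⁻¹ = (x * u * x⁻¹ * u⁻¹)⁻¹ by group]
  exact P.inv_mem (hu.2 x hx)

/-- The centraliser of the central involution. -/
def C : Subgroup G := centralizer ({S.τ ZZ} : Set G)

theorem mem_C {g : G} : g ∈ S.C ↔ Commute g (S.τ ZZ) := mem_centralizer_singleton_iff

theorem T_le_C : (S.T : Subgroup G) ≤ S.C := by
  intro g hg
  obtain ⟨x, rfl⟩ := S.mem_T.1 hg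
  exact S.mem_C.2 (S.τ_commute.2 (comm_ZZ x))

theorem τ_mem_C (x : T0) : S.τ x ∈ S.C := S.T_le_C (S.τ_mem x)

/-- Its 2-core. -/
def Q : Subgroup G := Balance.core 2 S.C

theorem charP_C : Balance.CharP' 2 S.C := by
  haveI := Fact.mk Nat.prime_two
  have hne : zpowers (S.τ ZZ) ≠ ⊥ := zpowers_ne_bot.2 (S.τ_ne_one (by decide))
  have h2 : orderOf (S.τ ZZ) = 2 := Invol.orderOf_two_of_mul_self
    (by rw [← map_mul, show ZZ * ZZ = 1 by decide, map_one]) (S.τ_ne_one (by decide))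
  have hP : IsPGroup 2 ↥(zpowers (S.τ ZZ)) :=
    IsPGroup.of_card (n := 1) (by rw [Nat.card_zpowers, h2, pow_one])
  have hN : normalizer (zpowers (S.τ ZZ) : Set G) = S.C := by
    refine le_antisymm (fun g hg => S.mem_C.2 ?_) ?_
    · have h := (mem_normalizer_iff.1 hg _).1 (mem_zpowers _)
      obtain ⟨k, hk⟩ := mem_zpowers_iff.1 h
      rcases Int.even_or_odd k with ⟨m, rfl⟩ | ⟨m, rfl⟩
      · exfalso
        rw [show (S.τ ZZ) ^ (m + m) = ((S.τ ZZ) ^ 2) ^ m by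
          rw [← zpow_natCast (S.τ ZZ) 2, ← zpow_mul]; congr 1; omega,
          ← h2, pow_orderOf_eq_one, one_zpow] at hk
        exact S.τ_ne_one (show ZZ ≠ 1 by decide) (conj_eq_one_iff.1 hk.symm)
      · rw [show (S.τ ZZ) ^ (2 * m + 1) = S.τ ZZ by
          rw [zpow_add, zpow_one, zpow_mul, zpow_ofNat, ← h2, pow_orderOf_eq_one, one_zpow, one_mul]] at hk
        exact mul_inv_eq_iff_eq_mul.1 hk.symm
    · rw [C, ← centralizer_closure, ← zpowers_eq_closure]; exact centralizer_le_normalizer _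
  have := S.charTwo _ hP hne (by rw [hN]; exact S.T_le_C)
  rwa [hN] at this

theorem isPGroup_Q : IsPGroup 2 ↥S.Q := by
  haveI := Fact.mk Nat.prime_two
  exact Balance.isPGroup_core _

theorem C_le_normalizer_Q : S.C ≤ normalizer (S.Q : Set G) := Balance.le_normalizer_core _

theorem Q_le_C : S.Q ≤ S.C := Balance.core_le _

theorem Q_le_T : S.Q ≤ (S.T : Subgroup G) := by
  haveI := Fact.mk Nat.prime_two
  exact le_sup_left.trans_eq (S.T.3
    (IsPGroup.to_sup_of_normal_left' S.isPGroup_Q S.T.2 (S.T_le_C.trans S.C_le_normalizer_Q)) le_sup_right)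

theorem le_Q {R : Subgroup G} (hR : R ≤ S.C) (hn : S.C ≤ normalizer (R : Set G))
    (h2 : IsPGroup 2 ↥R) : R ≤ S.Q := Balance.le_core hR hn h2

theorem mem_Q_of_cent {g : G} (hg : g ∈ S.C) (h : ∀ q ∈ S.Q, Commute g q) : g ∈ S.Q :=
  S.charP_C ⟨hg, fun q hq => (h q hq).eq.symm⟩

theorem eq_one_of_cent_Q {u : G} (hu : u ∈ S.C) (hodd : Odd (orderOf u))
    (h : ∀ q ∈ S.Q, Commute u q) : u = 1 := by
  haveI := Fact.mk Nat.prime_two
  exact Balance.eq_one_of_mem_pGroup_of_coprime S.isPGroup_Q (S.mem_Q_of_cent hu h) (odd_of hodd)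

theorem mem_map_τ {H : Subgroup T0} {x : T0} : S.τ x ∈ H.map S.τ ↔ x ∈ H :=
  ⟨fun ⟨y, hy, e⟩ => S.τ_inj e ▸ hy, fun h => ⟨x, h, rfl⟩⟩

theorem isZ_conj {x : T0} (h : isA x) : ¬ IsConj (S.τ x) (S.τ ZZ) := fun h' =>
  S.not_conj_Z1_ZZ ((S.conj_A h).trans h')

/-! ### The centraliser is not a 2-group -/

/-- The centraliser in `T0`. -/
def cent0 (x : T0) : Subgroup T0 := centralizer ({x} : Set T0)

theorem card_cent0 (x : T0) : Nat.card (cent0 x) = centCard x := by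
  rw [centCard, ← Fintype.card_subtype, ← Nat.card_eq_fintype_card]
  exact Nat.card_congr (Equiv.subtypeEquivRight fun t => mem_centralizer_singleton_iff)

theorem exists_rep (x : T0) (hx : x * x = 1) (hx1 : x ≠ 1) (hxJ : inJ x) :
    ∃ r : T0, 32 ≤ centCard r ∧ IsConj (S.τ r) (S.τ x) := by
  obtain ⟨h1, h2, h3, h4, h5⟩ := centCard_reps
  rcases inv_classes x hx with h | h | h | h | h | h | h
  · exact absurd h hx1
  · exact ⟨Z1, h1, S.conj_A h⟩
  · exact ⟨ZZ, h2, S.conj_Z h⟩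
  · exact ⟨C1, h3, S.conj_C h⟩
  · exact ⟨D0, h4, S.conj_D h⟩
  · exact ⟨E0, h5, S.conj_E h⟩
  · simp [isS, inJ] at h hxJ; simp [h.1] at hxJ

theorem not_isPGroup_C (hO : Cfsg.pResidual 2 G = ⊤) : ¬ IsPGroup 2 ↥S.C := by
  haveI := Fact.mk Nat.prime_two
  intro hC
  have hCT := S.le_T_of_isPGroup hC S.T_le_C
  have hsz : ¬ IsConj (S.τ SW) (S.τ ZZ) := by
    intro h
    obtain ⟨g, hg⟩ := isConj_iff.1 h
    obtain ⟨h3, hne, hcomm⟩ := D3_pow
    have hmem : g * S.ι D3 * g⁻¹ ∈ S.C := by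
      refine S.mem_C.2 ?_
      rw [← hg]
      exact (Commute.conj_iff g).2 (show Commute (S.ι D3) (S.ι (toW SW)) by
        show S.ι D3 * _ = _ * S.ι D3
        rw [← map_mul, ← map_mul, hcomm])
    refine hne (S.ι_inj ?_)
    rw [map_one]
    refine conj_eq_one_iff.1 (Balance.eq_one_of_mem_pGroup_of_coprime hC hmem ?_)
    refine Nat.Coprime.coprime_dvd_left ?_ (by norm_num : Nat.Coprime 3 2)
    exact orderOf_dvd_of_pow_eq_one (by rw [conj_pow, ← map_pow, h3, map_one]; group)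
  have hJT : subJ.map S.τ ≤ (S.T : Subgroup G) := by
    rintro _ ⟨x, -, rfl⟩; exact S.τ_mem x
  have hidx : (subJ.map S.τ).relIndex (S.T : Subgroup G) = 2 := by
    have h1 := card_mul_index ((subJ.map S.τ).subgroupOf (S.T : Subgroup G))
    rw [Nat.card_congr (subgroupOfEquivOfLe hJT).toEquiv, S.card_J, S.card_T] at h1
    show ((subJ.map S.τ).subgroupOf (S.T : Subgroup G)).index = 2
    omega
  have hSW : SW * SW = 1 := by decide
  obtain ⟨g, x, hxJ, hgx⟩ := Transfer.exists_conj_mem_of_pResidual_eq_top S.T (subJ.map S.τ) hJT hidx hO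
    (S.τ SW) (by rw [sq, ← map_mul, hSW, map_one]) (S.τ_mem SW)
  have hx2 : x * x = 1 := S.τ_inj (by rw [map_mul, hgx, conj_mul, ← map_mul, hSW, map_one]; group)
  have hx1 : x ≠ 1 := by
    rintro rfl
    rw [map_one] at hgx
    exact S.τ_ne_one (show SW ≠ 1 by decide) (conj_eq_one_iff.1 hgx.symm)
  obtain ⟨r, hr32, hr⟩ := S.exists_rep x hx2 hx1 hxJ
  obtain ⟨k0, hk0⟩ := isConj_iff.1 (hr.trans (isConj_iff.2 ⟨g⁻¹, by rw [hgx]; group⟩ :
    IsConj (S.τ x) (S.τ SW)))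
  -- a large 2-subgroup of the centraliser of the involution
  set Z : Subgroup G := centralizer ({S.τ SW} : Set G) with hZ
  set P1 : Subgroup G := ((cent0 r).map S.τ).map (MulAut.conj k0).toMonoidHom with hP1
  have hP1le : P1 ≤ Z := by
    rintro _ ⟨_, ⟨t, ht, rfl⟩, rfl⟩
    refine mem_centralizer_singleton_iff.2 ?_
    rw [← hk0]
    exact ((Commute.conj_iff k0).2 (S.τ_commute.2 (mem_centralizer_singleton_iff.1 ht))).eq
  have hP0le : (cent0 SW).map S.τ ≤ Z := by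
    rintro _ ⟨t, ht, rfl⟩
    exact mem_centralizer_singleton_iff.2 (S.τ_commute.2 (mem_centralizer_singleton_iff.1 ht))
  obtain ⟨P, hP⟩ := ((S.isPGroup_map (cent0 SW)).comap_subtype (K := Z)).exists_le_sylow
  obtain ⟨R, hR⟩ := (((S.isPGroup_map (cent0 r)).map _).comap_subtype (K := Z)).exists_le_sylow
  obtain ⟨U, hU⟩ := (P.2.map Z.subtype).exists_le_sylow
  obtain ⟨k, hk⟩ := MulAction.exists_smul_eq G U S.T
  have hkP : ∀ p ∈ (P : Subgroup Z).map Z.subtype, k * p * k⁻¹ ∈ (S.T : Subgroup G) := fun p hp => by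
    rw [← hk]
    exact ⟨p, hU hp, rfl⟩
  have hin : ∀ t : T0, t * SW = SW * t → S.τ t ∈ (P : Subgroup Z).map Z.subtype := fun t ht =>
    ⟨⟨S.τ t, hP0le ⟨t, mem_centralizer_singleton_iff.2 ht, rfl⟩⟩,
      hP ⟨t, mem_centralizer_singleton_iff.2 ht, rfl⟩, rfl⟩
  obtain ⟨y, hy⟩ := S.mem_T.1 (hkP _ (hin SW rfl))
  have hcard : 32 ≤ centCard y := by
    have hle : ((P : Subgroup Z).map Z.subtype).map (MulAut.conj k).toMonoidHom ≤ (cent0 y).map S.τ := by
      rintro _ ⟨p, hp, rfl⟩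
      obtain ⟨w, hw⟩ := S.mem_T.1 (hkP p hp)
      refine ⟨w, mem_centralizer_singleton_iff.2 (S.τ_commute.1 ?_), hw⟩
      rw [hw, hy]
      obtain ⟨p', -, rfl⟩ := hp
      exact (Commute.conj_iff k).2 (mem_centralizer_singleton_iff.1 p'.2)
    calc 32 ≤ centCard r := hr32
      _ = Nat.card (cent0 r) := (card_cent0 r).symm
      _ = Nat.card P1 := by
          rw [← S.card_map, hP1]
          exact Nat.card_congr (((cent0 r).map S.τ).equivMapOfInjective _ (MulAut.conj k0).injective).toEquiv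
      _ = Nat.card (P1.subgroupOf Z) := (Nat.card_congr (subgroupOfEquivOfLe hP1le).toEquiv).symm
      _ ≤ Nat.card (R : Subgroup Z) := Subgroup.card_le_of_le hR
      _ = Nat.card (P : Subgroup Z) := Nat.card_congr (R.equiv P).toEquiv
      _ = Nat.card (((P : Subgroup Z).map Z.subtype).map (MulAut.conj k).toMonoidHom) := by
          rw [← Nat.card_congr (((P : Subgroup Z).map Z.subtype).equivMapOfInjective _
            (MulAut.conj k).injective).toEquiv]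
          exact Nat.card_congr ((P : Subgroup Z).equivMapOfInjective _ Z.subtype_injective).toEquiv
      _ ≤ Nat.card ((cent0 y).map S.τ) := Subgroup.card_le_of_le hle
      _ = centCard y := by rw [S.card_map, card_cent0]
  have hy2 : y * y = 1 := S.τ_inj (by rw [map_mul, hy, conj_mul, ← map_mul, hSW, map_one]; group)
  have hy1 : y ≠ 1 := by
    rintro rfl
    rw [map_one] at hy
    exact S.τ_ne_one (show SW ≠ 1 by decide) (conj_eq_one_iff.1 hy.symm)
  have hyS : ¬ isS y := fun h => by rw [centCard_S y h] at hcard; omega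
  have hyσ : IsConj (S.τ SW) (S.τ y) := isConj_iff.2 ⟨k, hy.symm⟩
  obtain ⟨hc1, hc2, hcm, hc3⟩ := SW_comm
  obtain ⟨x', hx'⟩ := S.mem_T.1 (hkP _ (hin VV hc3))
  obtain ⟨y', hy'⟩ := S.mem_T.1 (hkP _ (hin E0 hc2))
  have hcomm : ∀ (a a' : T0), S.τ a' = k * S.τ a * k⁻¹ → a * SW = SW * a → a' * y = y * a' := by
    intro a a' e h
    refine S.τ_commute.1 ?_
    rw [e, hy]
    exact (Commute.conj_iff k).2 (S.τ_commute.2 h)
  have hw : S.τ (cm x' y') = k * S.τ ZZ * k⁻¹ := by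
    rw [← hcm, S.τ_cm, S.τ_cm, hx', hy']; group
  have hyclass : isA y ∨ isC y ∨ isD y ∨ isE y := by
    rcases inv_classes y hy2 with h | h | h | h | h | h | h
    · exact absurd h hy1
    · exact Or.inl h
    · exact absurd (hyσ.trans (S.conj_Z h).symm) hsz
    · exact Or.inr (Or.inl h)
    · exact Or.inr (Or.inr (Or.inl h))
    · exact Or.inr (Or.inr (Or.inr h))
    · exact absurd h hyS
  have := cm_cent y (by simpa [Bool.or_eq_true, or_assoc] using hyclass) x' (hcomm _ _ hx' hc3) y'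
    (hcomm _ _ hy' hc2)
  simp only [Bool.or_eq_true, Bool.and_eq_true] at this
  have hconj : IsConj (S.τ (cm x' y')) (S.τ ZZ) := isConj_iff.2 ⟨k⁻¹, by rw [hw]; group⟩
  rcases this with (h | h) | ⟨h, h'⟩
  · simp only [inZ, Bool.or_eq_true, beq_iff_eq] at h
    rcases h with h | h
    · rw [h, map_one] at hw
      exact S.τ_ne_one (show ZZ ≠ 1 by decide) (conj_eq_one_iff.1 hw.symm)
    · rw [h] at hw
      have hk : k ∈ S.C := S.mem_C.2 (mul_inv_eq_iff_eq_mul.1 hw.symm)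
      rw [hCT, S.mem_T] at hk
      obtain ⟨t, rfl⟩ := hk
      have e : y = t * SW * t⁻¹ := S.τ_inj (by rw [hy]; simp)
      refine hyS ?_
      rw [e]
      exact (show ∀ t : T0, isS (t * SW * t⁻¹) by decide +kernel) t
  · exact S.isZ_conj h hconj
  · exact hsz ((hyσ.trans (S.conj_E h).symm).trans ((S.conj_E h').trans hconj))

theorem exists_odd (hO : Cfsg.pResidual 2 G = ⊤) : ∃ u ∈ S.C, Odd (orderOf u) ∧ u ≠ 1 := by
  haveI := Fact.mk Nat.prime_two
  by_contra h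
  push_neg at h
  exact S.not_isPGroup_C hO (Balance.isPGroup_of_forall_coprime_eq_one fun u hu hco =>
    h u hu (Nat.coprime_two_right.1 hco))

/-! ### The orbit of `τ Z1` -/

/-- `τ x` is conjugate to `τ Z1` in the centraliser. -/
def Orb (x : T0) : Prop := ∃ c ∈ S.C, c * S.τ Z1 * c⁻¹ = S.τ x

theorem orb_Z1 : S.Orb Z1 := ⟨1, S.C.one_mem, by group⟩

theorem Orb.smul {x : T0} (h : S.Orb x) (t : T0) : S.Orb (t * x * t⁻¹) := by
  obtain ⟨c, hc, e⟩ := h
  refine ⟨S.τ t * c, S.C.mul_mem (S.τ_mem_C t) hc, ?_⟩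
  rw [map_mul, map_mul, map_inv, ← e]
  group

theorem orb_Z2 : S.Orb Z2 := by
  have := Orb.smul S S.orb_Z1 SW
  rwa [show SW * Z1 * SW⁻¹ = Z2 by decide] at this

theorem Z1_mem_Q : S.τ Z1 ∈ S.Q := by
  have hP : S.C ≤ normalizer (zpowers (S.τ ZZ) : Set G) := by
    rw [C, ← centralizer_closure, ← zpowers_eq_closure]; exact centralizer_le_normalizer _
  have hK : ∀ u ∈ S.C, Odd (orderOf u) → ∀ p ∈ zpowers (S.τ ZZ), Commute u p := by
    intro u hu _ p hp
    obtain ⟨i, rfl⟩ := mem_zpowers_iff.1 hp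
    exact (S.mem_C.1 hu).zpow_right i
  have h2 : IsPGroup 2 ↥(zpowers (S.τ ZZ)) :=
    S.T.2.to_le (zpowers_le.2 (S.τ_mem ZZ))
  refine S.le_Q (R := stab S.C S.Q (zpowers (S.τ ZZ)) hP) (fun c hc => hc.1)
    (le_normalizer_stab le_normalizer S.C_le_normalizer_Q hP)
    (isPGroup_stab h2 hK fun u hu ho h => S.eq_one_of_cent_Q hu ho h) ⟨S.τ_mem_C _, fun q hq => ?_⟩
  obtain ⟨t, rfl⟩ := S.mem_T.1 (S.Q_le_T hq)
  rw [← S.τ_cm]
  have := cm_Z1 t
  simp only [inZ, Bool.or_eq_true, beq_iff_eq] at this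
  rcases this with h | h <;> rw [h]
  · rw [map_one]; exact one_mem _
  · exact mem_zpowers _

theorem Orb.mem_Q {x : T0} (h : S.Orb x) : S.τ x ∈ S.Q := by
  obtain ⟨c, hc, e⟩ := h
  rw [← e]
  exact (mem_normalizer_iff.1 (S.C_le_normalizer_Q hc) _).1 S.Z1_mem_Q

theorem Orb.sq {x : T0} (h : S.Orb x) : x * x = 1 := by
  obtain ⟨c, -, e⟩ := h
  exact S.τ_inj (by rw [map_mul, ← e, conj_mul, ← map_mul, show Z1 * Z1 = 1 by decide, map_one]; group)

theorem Orb.not_inZ {x : T0} (h : S.Orb x) : ¬ inZ x := by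
  obtain ⟨c, -, e⟩ := h
  intro hx
  simp only [inZ, Bool.or_eq_true, beq_iff_eq] at hx
  rcases hx with rfl | rfl
  · rw [map_one] at e
    exact S.τ_ne_one (show Z1 ≠ 1 by decide) (conj_eq_one_iff.1 e)
  · exact S.not_conj_Z1_ZZ (isConj_iff.2 ⟨c, e⟩)

theorem Orb.not_isZ {x : T0} (h : S.Orb x) : ¬ isZ x := by
  obtain ⟨c, -, e⟩ := h
  exact fun hx => S.not_conj_Z1_ZZ ((isConj_iff.2 ⟨c, e⟩ : IsConj (S.τ Z1) (S.τ x)).trans (S.conj_Z hx).symm)

theorem Orb.cm_mem {x : T0} (h : S.Orb x) {t : T0} (ht : S.τ t ∈ S.Q) : inZ (cm t x) := by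
  obtain ⟨c, hc, e⟩ := h
  have hq : c⁻¹ * S.τ t * c⁻¹⁻¹ ∈ S.Q :=
    (mem_normalizer_iff.1 (S.C_le_normalizer_Q (S.C.inv_mem hc)) _).1 ht
  obtain ⟨t', ht'⟩ := S.mem_T.1 (S.Q_le_T hq)
  have key : S.τ (cm t x) = c * S.τ (cm t' Z1) * c⁻¹ := by
    rw [S.τ_cm, S.τ_cm, ← e, ht']; group
  have hz : c * S.τ ZZ * c⁻¹ = S.τ ZZ := by rw [(S.mem_C.1 hc).eq]; group
  have := cm_Z1 t'
  simp only [inZ, Bool.or_eq_true, beq_iff_eq] at this ⊢
  rcases this with h | h <;> rw [h] at key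
  · exact Or.inl (S.τ_inj (by rw [key, map_one]; group))
  · exact Or.inr (S.τ_inj (key.trans hz))

theorem Orb.commute_of_Q_le_J {x : T0} (h : S.Orb x) (hQJ : ∀ t : T0, S.τ t ∈ S.Q → inJ t)
    {t : T0} (ht : S.τ t ∈ S.Q) : t * x = x * t := by
  obtain ⟨c, hc, e⟩ := h
  have hq : c⁻¹ * S.τ t * c⁻¹⁻¹ ∈ S.Q :=
    (mem_normalizer_iff.1 (S.C_le_normalizer_Q (S.C.inv_mem hc)) _).1 ht
  obtain ⟨t', ht'⟩ := S.mem_T.1 (S.Q_le_T hq)
  have h2 := (Commute.conj_iff c).2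
    (S.τ_commute.2 ((comm_Z1_iff t').2 (hQJ t' (by rw [ht']; exact hq))))
  rw [e, ht', show c * (c⁻¹ * S.τ t * c⁻¹⁻¹) * c⁻¹ = S.τ t by group] at h2
  exact S.τ_commute.1 h2

/-- A commutative subgroup with which `Q` lies is equal to it if it is self-centralising. -/
theorem Q_eq_of_le {H : Subgroup T0} (hcomm : ∀ x ∈ H, ∀ y ∈ H, x * y = y * x)
    (hle : ∀ t : T0, S.τ t ∈ S.Q → t ∈ H) : S.Q = H.map S.τ := by
  refine le_antisymm (fun g hg => ?_) ?_
  · obtain ⟨t, rfl⟩ := S.mem_T.1 (S.Q_le_T hg)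
    exact ⟨t, hle t hg, rfl⟩
  · rintro _ ⟨x, hx, rfl⟩
    refine S.mem_Q_of_cent (S.τ_mem_C x) fun q hq => ?_
    obtain ⟨t, rfl⟩ := S.mem_T.1 (S.Q_le_T hq)
    exact S.τ_commute.2 (hcomm x hx t (hle t hq))

theorem small_case (hO : Cfsg.pResidual 2 G = ⊤) {x : T0} (hx : S.Orb x)
    (hsm : isA x && !inZ2 x || isC x || isD x) : S.C ≤ normalizer (subB.map S.τ : Set G) := by
  have hQJ : ∀ t : T0, S.τ t ∈ S.Q → inJ t := fun t ht => small_to_inJ x hsm t (hx.cm_mem S ht)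
  have hcent : ∀ r : T0, S.Orb r → ∀ t : T0, S.τ t ∈ S.Q → ∀ k : T0,
      t * (k * r * k⁻¹) = k * r * k⁻¹ * t :=
    fun r hr t ht k => (hr.smul S k).commute_of_Q_le_J S hQJ ht
  have back : ∀ (r t : T0), S.Orb (t * r * t⁻¹) → S.Orb r := fun r t h => by
    have := Orb.smul S h t⁻¹
    rwa [show t⁻¹ * (t * r * t⁻¹) * t⁻¹⁻¹ = r by group] at this
  have hB : (∀ t : T0, S.τ t ∈ S.Q → t ∈ subB) → S.C ≤ normalizer (subB.map S.τ : Set G) := by
    intro h
    rw [← S.Q_eq_of_le (show ∀ x : T0, inB x → ∀ y : T0, inB y → x * y = y * x by decide +kernel) h]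
    exact S.C_le_normalizer_Q
  simp only [Bool.or_eq_true, Bool.and_eq_true, Bool.not_eq_true'] at hsm
  rcases hsm with (⟨h, hZ⟩ | h) | h
  · obtain ⟨t, rfl | rfl⟩ := class_A x h
    · exact absurd hZ (by
        simpa using (show ∀ t : T0, inZ2 (t * Z1 * t⁻¹) by decide +kernel) t)
    exfalso
    have hQA := S.Q_eq_of_le (show ∀ x : T0, inA x → ∀ y : T0, inA y → x * y = y * x by decide +kernel)
      (H := subA) fun q hq => cent_class_A q (hcent _ (back _ _ hx) q hq)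
    obtain ⟨u, hu, huo, hu1⟩ := S.exists_odd hO
    obtain ⟨w, rfl⟩ := S.hA u fun a ha => by
      have h := (mem_normalizer_iff.1 (S.C_le_normalizer_Q hu) _).1
        (show S.τ a ∈ S.Q by rw [hQA]; exact ⟨a, ha, rfl⟩)
      rw [hQA] at h
      obtain ⟨b, hb, e⟩ := h
      exact ⟨b, hb, e.symm⟩
    obtain ⟨t', rfl⟩ := toW_of_comm w (S.ι_inj (by rw [map_mul, map_mul]; exact (S.mem_C.1 hu).eq))
    haveI := Fact.mk Nat.prime_two
    exact hu1 (Balance.eq_one_of_mem_pGroup_of_coprime S.T.2 (S.τ_mem t') (odd_of huo))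
  · obtain ⟨t, rfl⟩ := class_C x h
    exact hB fun q hq => cent_class_C q (hcent _ (back _ _ hx) q hq)
  · obtain ⟨t, rfl | rfl⟩ := class_D x h
    · exact hB fun q hq => cent_class_D0 q (hcent _ (back _ _ hx) q hq)
    exfalso
    have hQ : ∀ q : T0, S.τ q ∈ S.Q → inZ2 q := fun q hq => cent_class_D1 q (hcent _ (back _ _ hx) q hq)
    have : S.τ C1 ∈ S.Q := S.mem_Q_of_cent (S.τ_mem_C _) fun q hq => by
      obtain ⟨t', rfl⟩ := S.mem_T.1 (S.Q_le_T hq)
      exact S.τ_commute.2 ((show ∀ y : T0, inZ2 y → C1 * y = y * C1 by decide +kernel) t' (hQ t' hq))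
    exact absurd (hQ C1 this) (by decide)

open scoped Classical in
theorem S_case {x : T0} (hx : S.Orb x) (hS : isS x) : False := by
  obtain ⟨t, rfl⟩ := class_S x hS
  have hSW : S.Orb SW := by
    have := Orb.smul S hx t⁻¹
    rwa [show t⁻¹ * (t * SW * t⁻¹) * t⁻¹⁻¹ = SW by group] at this
  have hF : ∀ q : T0, S.τ q ∈ S.Q → inF q := fun q hq =>
    cm_class_S q fun k => (hSW.smul S k).cm_mem S hq
  set b : Bool := decide (S.Orb E0) with hb
  have hiff : ∀ y : T0, S.Orb y ↔ inO b y := by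
    intro y
    constructor
    · intro hy
      have := inF_classes y (hF y (hy.mem_Q S)) (hy.sq S)
      simp only [Bool.or_eq_true] at this
      simp only [inO, Bool.or_eq_true, Bool.and_eq_true]
      rcases this with ((((h | h) | h) | h) | h) | h
      · exact absurd h (hy.not_inZ S)
      · exact absurd h (hy.not_isZ S)
      · exact Or.inl (Or.inl (Or.inl h))
      · exact Or.inl (Or.inl (Or.inr h))
      · refine Or.inr ⟨?_, h⟩
        rw [hb, decide_eq_true_eq]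
        obtain ⟨t, rfl⟩ := class_E y h
        have := Orb.smul S hy t⁻¹
        rwa [show t⁻¹ * (t * E0 * t⁻¹) * t⁻¹⁻¹ = E0 by group] at this
      · exact Or.inl (Or.inr h)
    · intro hy
      simp only [inO, Bool.or_eq_true, Bool.and_eq_true, beq_iff_eq] at hy
      rcases hy with ((rfl | rfl) | h) | ⟨h1, h⟩
      · exact S.orb_Z1
      · exact S.orb_Z2
      · obtain ⟨t, rfl⟩ := class_S y h; exact hSW.smul S t
      · rw [hb, decide_eq_true_eq] at h1
        obtain ⟨t, rfl⟩ := class_E y h; exact h1.smul S t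
  obtain ⟨c, hc, e⟩ := hSW
  refine orbit_degree b ?_
  have hmap : ∀ (g : G), g ∈ S.C → ∀ y : T0, S.Orb y → ∃ y' : T0, S.Orb y' ∧ g * S.τ y * g⁻¹ = S.τ y' := by
    intro g hg y ⟨d, hd, hdy⟩
    have hmem : g * S.τ y * g⁻¹ ∈ S.Q :=
      (mem_normalizer_iff.1 (S.C_le_normalizer_Q hg) _).1 (Orb.mem_Q S ⟨d, hd, hdy⟩)
    obtain ⟨y', hy'⟩ := S.mem_T.1 (S.Q_le_T hmem)
    exact ⟨y', ⟨g * d, S.C.mul_mem hg hd, by rw [hy', ← hdy]; group⟩, hy'.symm⟩
  choose! f hf using hmap c hc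
  refine Finset.card_bij (fun y _ => f y) ?_ ?_ ?_
  · intro y hy
    simp only [Finset.mem_filter, Finset.mem_univ, true_and, Bool.and_eq_true, decide_eq_true_eq] at hy ⊢
    obtain ⟨h1, h2⟩ := hf y ((hiff y).2 hy.1)
    refine ⟨(hiff _).1 h1, S.τ_commute.1 ?_⟩
    rw [← h2, ← e]
    exact (Commute.conj_iff c).2 (S.τ_commute.2 hy.2)
  · intro y hy y' hy' he
    simp only [Finset.mem_filter, Finset.mem_univ, true_and, Bool.and_eq_true] at hy hy'
    exact S.τ_inj (mul_left_cancel (mul_right_cancel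
      (((hf y ((hiff y).2 hy.1)).2).trans ((congrArg S.τ he).trans (hf y' ((hiff y').2 hy'.1)).2.symm))))
  · intro w hw
    simp only [Finset.mem_filter, Finset.mem_univ, true_and, Bool.and_eq_true, decide_eq_true_eq] at hw
    obtain ⟨y, hy1, hy2⟩ := hmap c⁻¹ (S.C.inv_mem hc) w ((hiff w).2 hw.1)
    have hcy : c * S.τ y * c⁻¹ = S.τ w := by rw [← hy2]; group
    have hyZ : y * Z1 = Z1 * y := by
      refine S.τ_commute.1 ((Commute.conj_iff c).1 ?_)
      rw [hcy, e]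
      exact S.τ_commute.2 hw.2
    exact ⟨y, by simp [(hiff y).1 hy1, hyZ], S.τ_inj ((hf y hy1).2.symm.trans hcy)⟩

theorem two_case (hO : Cfsg.pResidual 2 G = ⊤) (h : ∀ x : T0, S.Orb x → x = Z1 ∨ x = Z2) : False := by
  haveI := Fact.mk Nat.prime_two
  have hZ2 : ∀ c ∈ S.C, ∀ x : T0, inZ2 x → c * S.τ x * c⁻¹ ∈ subZ2.map S.τ := by
    intro c hc x hx
    have hz : c * S.τ ZZ * c⁻¹ = S.τ ZZ := by rw [(S.mem_C.1 hc).eq]; group
    have h1 : c * S.τ Z1 * c⁻¹ ∈ subZ2.map S.τ := by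
      obtain ⟨y, hy⟩ := S.mem_T.1 (S.Q_le_T
        ((mem_normalizer_iff.1 (S.C_le_normalizer_Q hc) _).1 S.Z1_mem_Q))
      rw [← hy]
      rcases h y ⟨c, hc, hy.symm⟩ with rfl | rfl <;> exact ⟨_, by rfl, rfl⟩
    have hfour : ∀ x : T0, inZ2 x → x = 1 ∨ x = ZZ ∨ x = Z1 ∨ x = Z1 * ZZ := by decide +kernel
    rcases hfour x hx with rfl | rfl | rfl | rfl
    · simp
    · rw [hz]; exact ⟨_, by rfl, rfl⟩
    · exact h1
    · rw [map_mul, ← conj_mul, hz]; exact mul_mem h1 ⟨_, by rfl, rfl⟩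
  set Z := subZ2.map S.τ with hZdef
  have hCZ : S.C ≤ normalizer (Z : Set G) := by
    rw [le_normalizer_iff]
    rintro c hc _ ⟨x, hx, rfl⟩
    exact hZ2 c hc x hx
  have hCcent := centralizer_normalizes hCZ
  set X := S.Q ⊓ centralizer (Z : Set G) with hX
  set K := S.C ⊓ centralizer (Z : Set G) with hK
  have hKn : S.C ≤ normalizer (K : Set G) := inf_normalizes le_normalizer hCcent
  have hXn : S.C ≤ normalizer (X : Set G) := inf_normalizes S.C_le_normalizer_Q hCcent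
  have hmemX : ∀ t : T0, S.τ t ∈ X ↔ S.τ t ∈ S.Q ∧ inJ t := by
    intro t
    rw [hX, mem_inf]
    refine and_congr_right fun _ => ⟨fun h => (comm_Z1_iff t).1 (S.τ_commute.1 (h _ ⟨Z1, by rfl, rfl⟩).symm),
      fun ht => ?_⟩
    rintro _ ⟨x, hx, rfl⟩
    exact (S.τ_commute.2 ((show ∀ t x : T0, inJ t → inZ2 x → x * t = t * x by decide +kernel) t x ht hx)).eq
  have h2 : IsPGroup 2 ↥(stab K X Z (inf_le_left.trans hCZ)) := by
    refine isPGroup_stab (S.isPGroup_map _) (fun u hu _ p hp => (hu.2 p hp).symm) fun u hu ho hc => ?_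
    refine S.eq_one_of_cent_Q hu.1 ho fun q hq => commute_of_series
      (S.isPGroup_Q.to_le (inf_le_left : X ≤ S.Q)) ho hc ?_
    obtain ⟨t, rfl⟩ := S.mem_T.1 (S.Q_le_T hq)
    have hmem := (mem_normalizer_iff.1 (S.C_le_normalizer_Q hu.1) _).1 hq
    obtain ⟨t', ht'⟩ := S.mem_T.1 (S.Q_le_T hmem)
    rw [← ht', ← map_inv, ← map_mul, hmemX]
    refine ⟨by rw [map_mul, map_inv, ht']; exact mul_mem hmem (inv_mem hq), ?_⟩
    have hsame : inJ t' = inJ t := by
      have hcz : ∀ a a' : T0, u * S.τ a * u⁻¹ = S.τ a' → (a * Z1 = Z1 * a ↔ a' * Z1 = Z1 * a') := by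
        intro a a' e
        have hz : u * S.τ Z1 * u⁻¹ = S.τ Z1 := by
          rw [(hu.2 (S.τ Z1) ⟨Z1, by rfl, rfl⟩).symm]; group
        rw [← S.τ_commute, ← S.τ_commute, ← e]
        conv_rhs => rw [← hz]
        exact (Commute.conj_iff u).symm
      have := hcz t t' ht'.symm
      rw [comm_Z1_iff, comm_Z1_iff] at this
      exact Bool.eq_iff_iff.2 this.symm
    exact (show ∀ a b : T0, inJ b = inJ a → inJ (b * a⁻¹) by decide +kernel) t t' hsame
  have hJQ : subJ.map S.τ ≤ S.Q := fun g hg => by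
    refine S.le_Q (R := stab K X Z (inf_le_left.trans hCZ)) (fun c hc => hc.1.1)
      (le_normalizer_stab hKn hXn hCZ) h2 ?_
    obtain ⟨a, ha, rfl⟩ := hg
    refine ⟨⟨S.τ_mem_C a, ?_⟩, fun x hx => ?_⟩
    · rintro _ ⟨x, hx, rfl⟩
      exact (S.τ_commute.2 ((show ∀ t x : T0, inJ t → inZ2 x → x * t = t * x by decide +kernel) a x ha hx)).eq
    obtain ⟨t, rfl⟩ := S.mem_T.1 (S.Q_le_T hx.1)
    rw [← S.τ_cm]
    exact ⟨_, cm_inJ t a ((hmemX t).1 hx).2 ha, rfl⟩
  have hXJ : X = subJ.map S.τ := by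
    refine le_antisymm (fun g hg => ?_) fun g hg => ?_
    · obtain ⟨t, rfl⟩ := S.mem_T.1 (S.Q_le_T hg.1)
      exact ⟨t, ((hmemX t).1 hg).2, rfl⟩
    · obtain ⟨t, ht, rfl⟩ := hg
      exact (hmemX t).2 ⟨hJQ ⟨t, ht, rfl⟩, ht⟩
  rw [hXJ, S.normalizer_J] at hXn
  exact S.not_isPGroup_C hO (S.T.2.to_le hXn)

theorem E_case (h : ∀ x : T0, S.Orb x → x = Z1 ∨ x = Z2 ∨ isE x) (hE : S.Orb E0) :
    S.C ≤ normalizer (subB.map S.τ : Set G) := by
  have hQE : ∀ t : T0, S.τ t ∈ S.Q → inE t := fun t ht => cm_E0 t (hE.cm_mem S ht)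
  have horbW : ∀ x : T0, S.Orb x → inW x := fun x hx => inW_of x (by
    rcases h x hx with rfl | rfl | h' <;> simp [*])
  set Wg := subW.map S.τ with hWg
  have hCW : S.C ≤ normalizer (Wg : Set G) := by
    rw [le_normalizer_iff]
    rintro c hc _ ⟨x, hx, rfl⟩
    have hz : c * S.τ ZZ * c⁻¹ = S.τ ZZ := by rw [(S.mem_C.1 hc).eq]; group
    have horb : S.Orb x → c * S.τ x * c⁻¹ ∈ Wg := by
      rintro ⟨d, hd, e⟩
      obtain ⟨y, hy⟩ := S.mem_T.1 (S.Q_le_T
        ((mem_normalizer_iff.1 (S.C_le_normalizer_Q hc) _).1 (Orb.mem_Q S ⟨d, hd, e⟩)))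
      rw [← hy]
      exact ⟨y, horbW y ⟨c * d, S.C.mul_mem hc hd, by rw [hy, ← e]; group⟩, rfl⟩
    have := inW_elems x hx
    simp only [Bool.or_eq_true, inZ, beq_iff_eq] at this
    rcases this with (((rfl | rfl) | rfl) | rfl) | h'
    · simp
    · rw [hz]; exact ⟨_, by rfl, rfl⟩
    · exact horb S.orb_Z1
    · exact horb S.orb_Z2
    · obtain ⟨t, rfl⟩ := class_E x h'
      exact horb (hE.smul S t)
  have hCcent := centralizer_normalizes hCW
  have h2 : IsPGroup 2 ↥(stab (S.C ⊓ centralizer (Wg : Set G)) S.Q Wg (inf_le_left.trans hCW)) :=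
    isPGroup_stab (S.isPGroup_map _) (fun u hu _ p hp => (hu.2 p hp).symm)
      fun u hu ho hc => S.eq_one_of_cent_Q hu.1 ho hc
  have hcentW : ∀ t : T0, S.τ t ∈ centralizer (Wg : Set G) ↔ inB t := by
    intro t
    rw [← cent_inW t]
    refine ⟨fun h w hw => S.τ_commute.1 (h _ ⟨w, hw, rfl⟩).symm, fun h => ?_⟩
    rintro _ ⟨w, hw, rfl⟩
    exact (S.τ_commute.2 (h w hw)).eq.symm
  have hBQ : subB.map S.τ ≤ S.Q := fun g hg => by
    refine S.le_Q (R := stab (S.C ⊓ centralizer (Wg : Set G)) S.Q Wg (inf_le_left.trans hCW))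
      (fun c hc => hc.1.1) (le_normalizer_stab (inf_normalizes le_normalizer hCcent) S.C_le_normalizer_Q hCW)
      h2 ?_
    obtain ⟨a, ha, rfl⟩ := hg
    refine ⟨⟨S.τ_mem_C a, (hcentW a).2 ha⟩, fun x hx => ?_⟩
    obtain ⟨t, rfl⟩ := S.mem_T.1 (S.Q_le_T hx)
    rw [← S.τ_cm]
    exact ⟨_, cm_inE_inB t a (hQE t hx) ha, rfl⟩
  have : S.Q ⊓ centralizer (Wg : Set G) = subB.map S.τ := by
    refine le_antisymm (fun g hg => ?_) fun g hg => ⟨hBQ hg, ?_⟩
    · obtain ⟨t, rfl⟩ := S.mem_T.1 (S.Q_le_T hg.1)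
      exact ⟨t, (hcentW t).1 hg.2, rfl⟩
    · obtain ⟨t, ht, rfl⟩ := hg
      exact (hcentW t).2 ht
  rw [← this]
  exact inf_normalizes S.C_le_normalizer_Q hCcent

/-- The centraliser of the central involution normalises `U × U`. -/
theorem C_le_normalizer_B (hO : Cfsg.pResidual 2 G = ⊤) : S.C ≤ normalizer (subB.map S.τ : Set G) := by
  by_cases hsm : ∃ x : T0, S.Orb x ∧ (isA x && !inZ2 x || isC x || isD x)
  · obtain ⟨x, hx, h⟩ := hsm
    exact S.small_case hO hx h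
  push_neg at hsm
  have hin : ∀ x : T0, S.Orb x → x = Z1 ∨ x = Z2 ∨ isE x := by
    intro x hx
    rcases inv_classes x (hx.sq S) with h | h | h | h | h | h | h
    · exact absurd (by simp [inZ, h]) (hx.not_inZ S)
    · have : inZ2 x := by
        have := hsm x hx
        simp [h] at this
        exact this.1.1
      exact ((show ∀ x : T0, isA x → inZ2 x → x = Z1 ∨ x = Z2 by decide +kernel) x h this).elim
        Or.inl fun h => Or.inr (Or.inl h)
    · exact absurd h (hx.not_isZ S)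
    · exact absurd (by simp [h]) (hsm x hx)
    · exact absurd (by simp [h]) (hsm x hx)
    · exact Or.inr (Or.inr h)
    · exact (S.S_case hx h).elim
  by_cases hE : S.Orb E0
  · exact S.E_case hin hE
  · refine (S.two_case hO fun x hx => ?_).elim
    rcases hin x hx with h | h | h
    · exact Or.inl h
    · exact Or.inr h
    · obtain ⟨t, rfl⟩ := class_E x h
      have := Orb.smul S hx t⁻¹
      rw [show t⁻¹ * (t * E0 * t⁻¹) * t⁻¹⁻¹ = E0 by group] at this
      exact absurd this hE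

end Cfg

end Cfsg.Agent.S4WreathLocal
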