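import Cfsg.Agent.Lib.S4WreathLocal.Facts

/-!
# Further computed facts about `D₈ ≀ 2`
-/

set_option autoImplicit false
set_option linter.style.maxHeartbeats false

namespace Cfsg.Agent.S4WreathLocal

theorem inB_quot : ∀ t : T0, (∀ x : T0, inB x → inZ (cm t x)) → inB t := by decide +kernel

theorem cm_SW_V1e : cm SW V1e = VV ∧ VV * Z1 = Z1 * VV ∧ Z1 * ZZ = Z2 := by decide +kernel

theorem card_inB :
    Fintype.card {x : T0 // inB x && !inZ x} = 14 ∧ Fintype.card {x : T0 // inB x} = 16 ∧
      Fintype.card {x : T0 // x == Z1 || x == Z2 || isE x} = 6 := by decide +kernel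

theorem card_CD : Fintype.card {x : T0 // inB x && !inW x} = 8 ∧ Fintype.card {x : T0 // isC x} = 4 := by
  decide +kernel

theorem class_D_inB : ∀ x : T0, inB x → isD x → ∀ y : T0, inB y → isD y →
    ∃ t : T0, y = t * x * t⁻¹ := by decide +kernel

theorem C_or_D : ∀ x : T0, inB x → !inW x → isC x || isD x := by decide +kernel

theorem isC_inB : ∀ x : T0, isC x → inB x && !inW x := by decide +kernel

theorem isC_V1e : ∀ x : T0, isC x → (x * V1e = V1e * x ↔ x = C2 ∨ x = C2') := by decide +kernel

theorem gens_B : ∀ x : T0, inB x → ∃ i j k l : Bool,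
    x = (bif i then C1 else 1) * (bif j then C1' else 1) * (bif k then C2 else 1) *
      (bif l then C2' else 1) := by decide +kernel

theorem small_A_class : ∀ x : T0, isA x → !inZ2 x → ∃ t : T0, x = t * V1e * t⁻¹ := by decide +kernel

theorem W_from_E : Z1 = E0 * ⟨DihedralGroup.sr 3, DihedralGroup.sr 1, false⟩ ∧
    isE ⟨DihedralGroup.sr 3, DihedralGroup.sr 1, false⟩ ∧ !inW C1 ∧
    (∀ x y : T0, inW x → inW y → inW (x * y)) ∧ inB Z1 := by decide +kernel

end Cfsg.Agent.S4WreathLocal
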