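import Mathlib.GroupTheory.Sylow
import Mathlib.GroupTheory.Transfer
import Mathlib.Tactic.NormNum.Prime
import Mathlib.Tactic.IntervalCases
import Mathlib.Tactic.Ring

/-!
# Commutators in groups of order 56 without a normal subgroup of order 8
-/

set_option autoImplicit false

namespace Cfsg.Agent.S4WreathLocal

open Subgroup

/-- An element of order 7 centralising a given commutator. -/
theorem exists_order_seven_commute {Γ : Type*} [Group Γ] [Finite Γ] (h56 : Nat.card Γ = 56)
    (hno : ∀ R : Subgroup Γ, R.Normal → Nat.card R ≠ 8) (a b : Γ) :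
    ∃ u : Γ, orderOf u = 7 ∧ Commute (a * b * a⁻¹ * b⁻¹) u := by
  haveI := Fact.mk (by norm_num : Nat.Prime 7)
  obtain ⟨P⟩ : Nonempty (Sylow 7 Γ) := inferInstance
  have hP : Nat.card (P : Subgroup Γ) = 7 := by
    obtain ⟨n, hn⟩ := IsPGroup.iff_card.1 P.2
    have h1 : (P : Subgroup Γ).index * 7 ^ n = 56 := by rw [← hn, mul_comm, card_mul_index, h56]
    have h2 := P.not_dvd_index
    rcases n with _ | _ | n
    · rw [pow_zero, mul_one] at h1; exact absurd (by rw [h1]; norm_num) h2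
    · rw [hn, zero_add, pow_one]
    · exfalso
      have : 49 ∣ 56 := ⟨(P : Subgroup Γ).index * 7 ^ n, by rw [← h1, pow_succ, pow_succ]; ring⟩
      norm_num at this
  haveI hcyc : IsCyclic (P : Subgroup Γ) := isCyclic_of_prime_card hP
  have hnorm : (P : Subgroup Γ).Normal := by
    rw [← normalizer_eq_top_iff, ← index_eq_one,
      show (normalizer ((P : Subgroup Γ) : Set Γ)).index = Nat.card (Sylow 7 Γ) from P.card_eq_index_normalizer.symm]
    have hdvd : Nat.card (Sylow 7 Γ) ∣ (P : Subgroup Γ).index := P.card_dvd_index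
    have hidx : (P : Subgroup Γ).index = 8 := by
      have := card_mul_index (P : Subgroup Γ)
      rw [hP, h56] at this; omega
    rw [hidx] at hdvd
    have hmod := card_sylow_modEq_one 7 Γ
    have hle := Nat.le_of_dvd (by norm_num) hdvd
    have hne : Nat.card (Sylow 7 Γ) ≠ 8 := by
      intro h8
      have hNP : normalizer ((P : Subgroup Γ) : Set Γ) = (P : Subgroup Γ) := by
        refine (Subgroup.eq_of_le_of_card_ge le_normalizer (le_of_eq ?_)).symm
        have hi : (normalizer ((P : Subgroup Γ) : Set Γ)).index = 8 :=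
          P.card_eq_index_normalizer ▸ h8
        have := card_mul_index (normalizer ((P : Subgroup Γ) : Set Γ))
        rw [hi, h56] at this
        rw [hP]; omega
      letI := IsCyclic.commGroup (α := (P : Subgroup Γ))
      have hc : normalizer ((P : Subgroup Γ) : Set Γ) ≤ centralizer ((P : Subgroup Γ) : Set Γ) := by
        rw [hNP]
        intro x hx y hy
        exact congrArg Subtype.val (mul_comm (⟨y, hy⟩ : (P : Subgroup Γ)) ⟨x, hx⟩)
      have hK := MonoidHom.ker_transferSylow_isComplement' P hc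
      refine hno (MonoidHom.transferSylow P hc).ker inferInstance ?_
      have := hK.card_mul
      rw [hP, h56] at this; omega
    have hmod' : Nat.card (Sylow 7 Γ) % 7 = 1 := hmod
    interval_cases h : Nat.card (Sylow 7 Γ) <;> simp_all
  obtain ⟨u, hu⟩ := IsCyclic.exists_generator (α := (P : Subgroup Γ))
  refine ⟨u, by rw [orderOf_coe, orderOf_eq_card_of_forall_mem_zpowers hu, hP], ?_⟩
  have hpow : ∀ g : Γ, ∃ i : ℤ, g * u * g⁻¹ = (u : Γ) ^ i := fun g => by
    obtain ⟨i, hi⟩ := mem_zpowers_iff.1 (hu ⟨g * u * g⁻¹, hnorm.conj_mem u u.2 g⟩)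
    exact ⟨i, (congrArg Subtype.val hi).symm.trans (SubgroupClass.coe_zpow u i)⟩
  obtain ⟨i, hi⟩ := hpow a
  obtain ⟨j, hj⟩ := hpow b
  have h1 : (a * b) * (u : Γ) * (a * b)⁻¹ = (b * a) * u * (b * a)⁻¹ := by
    rw [show a * b * (u : Γ) * (a * b)⁻¹ = a * (b * u * b⁻¹) * a⁻¹ by group, hj, ← conj_zpow, hi,
      show b * a * (u : Γ) * (b * a)⁻¹ = b * (a * u * a⁻¹) * b⁻¹ by group, hi, ← conj_zpow, hj,
      ← zpow_mul, ← zpow_mul, mul_comm]
  show a * b * a⁻¹ * b⁻¹ * (u : Γ) = u * (a * b * a⁻¹ * b⁻¹)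
  calc a * b * a⁻¹ * b⁻¹ * (u : Γ)
      = a * b * ((b * a)⁻¹ * u * (b * a)) * (b * a)⁻¹ := by group
    _ = a * b * ((b * a)⁻¹ * ((b * a) * ((a * b)⁻¹ * u * (a * b)) * (b * a)⁻¹) * (b * a)) * (b * a)⁻¹ := by
        congr 3
        have h2 : (a * b) * ((a * b)⁻¹ * (u : Γ) * (a * b)) * (a * b)⁻¹ = u := by group
        have h3 : ∀ x ∈ (P : Subgroup Γ), (a * b) * x * (a * b)⁻¹ = (b * a) * x * (b * a)⁻¹ := by
          intro x hx
          obtain ⟨k, hk⟩ := mem_zpowers_iff.1 (hu ⟨x, hx⟩)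
          have hxk : x = (u : Γ) ^ k := (congrArg Subtype.val hk).symm.trans (SubgroupClass.coe_zpow u k)
          rw [hxk, ← conj_zpow, h1, conj_zpow]
        have h4 := h3 _ (by
          have := hnorm.conj_mem u u.2 (a * b)⁻¹
          rwa [inv_inv] at this : (a * b)⁻¹ * (u : Γ) * (a * b) ∈ (P : Subgroup Γ))
        rw [h2] at h4
        rw [← h4]
    _ = u * (a * b * a⁻¹ * b⁻¹) := by group

end Cfsg.Agent.S4WreathLocal
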