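import Cfsg.Agent.Lib.S4WreathLocal.Cent
import Cfsg.Agent.Lib.S4WreathLocal.Facts2
import Cfsg.Agent.Lib.S4WreathLocal.Order56
import Cfsg.Agent.Lib.SmallCent.BOne

/-!
# The structure of the centraliser of the central involution
-/

set_option autoImplicit false
set_option linter.style.haveILetI false
set_option linter.unusedSectionVars false

namespace Cfsg.Agent.S4WreathLocal

open Subgroup Cfsg.Agent

namespace Cfg

variable {G : Type*} [Group G] [Finite G] (S : Cfg G) (hO : Cfsg.pResidual 2 G = ⊤)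

theorem C_conj_ZZ {c : G} (hc : c ∈ S.C) : c * S.τ ZZ * c⁻¹ = S.τ ZZ := by
  rw [(S.mem_C.1 hc).eq]; group

include hO in
theorem conj_inB {c : G} (hc : c ∈ S.C) {x : T0} (hx : inB x) :
    ∃ y : T0, inB y ∧ c * S.τ x * c⁻¹ = S.τ y :=
  S.exists_pull (H := subB) (S.C_le_normalizer_B hO hc) x hx

include hO in
theorem Orb.inB {x : T0} (h : S.Orb x) : inB x := by
  obtain ⟨c, hc, e⟩ := h
  obtain ⟨y, hy, e'⟩ := S.conj_inB hO hc (x := Z1) (by rfl)
  rw [← S.τ_inj (e'.symm.trans e)]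
  exact hy

theorem Orb.conj {x y : T0} (h : S.Orb x) {c : G} (hc : c ∈ S.C)
    (e : c * S.τ x * c⁻¹ = S.τ y) : S.Orb y := by
  obtain ⟨d, hd, e'⟩ := h
  exact ⟨c * d, S.C.mul_mem hc hd, by rw [← e, ← e']; group⟩

theorem Orb.mul_ZZ {x : T0} (h : S.Orb x) : S.Orb (x * ZZ) := by
  obtain ⟨c, hc, e⟩ := h
  refine S.orb_Z2.conj S hc ?_
  rw [show Z2 = Z1 * ZZ by decide, map_mul, ← conj_mul, e, S.C_conj_ZZ hc, ← map_mul]

include hO in
/-- `C(z₁, z₂) = J`. -/
theorem cent_Z1_in_C {g : G} (hg : g ∈ S.C) (h1 : Commute g (S.τ Z1)) :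
    ∃ x : T0, inJ x ∧ S.τ x = g := by
  set K : Subgroup G := S.C ⊓ centralizer ({S.τ Z1} : Set G) with hK
  have hfix : ∀ u ∈ K, ∀ p ∈ subZ2.map S.τ, Commute u p := by
    rintro u hu _ ⟨x, hx, rfl⟩
    have hz1 : Commute u (S.τ Z1) := mem_centralizer_singleton_iff.1 hu.2
    have hzz : Commute u (S.τ ZZ) := S.mem_C.1 hu.1
    have hfour : ∀ x : T0, inZ2 x → x = 1 ∨ x = ZZ ∨ x = Z1 ∨ x = Z1 * ZZ := by decide +kernel
    rcases hfour x hx with rfl | rfl | rfl | rfl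
    · rw [map_one]; exact Commute.one_right u
    · exact hzz
    · exact hz1
    · rw [map_mul]; exact hz1.mul_right hzz
  have hKZ : K ≤ normalizer (subZ2.map S.τ : Set G) := fun u hu =>
    centralizer_le_normalizer _ (fun p hp => (hfix u hu p hp).eq.symm)
  have h2 : IsPGroup 2 ↥(stab K (subB.map S.τ) (subZ2.map S.τ) hKZ) :=
    isPGroup_stab (S.isPGroup_map _) (fun u hu _ => hfix u hu) fun u hu ho hc =>
      S.eq_one_of_cent subB_normal (ne_bot_of (x := Z1) (by rfl) (by decide))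
        (fun t ht => cent_inB t ht) ho fun x hx => hc _ ⟨x, hx, rfl⟩
  have hP : stab K (subB.map S.τ) (subZ2.map S.τ) hKZ = subJ.map S.τ := by
    refine S.eq_J_of_cent_Z1 h2 (fun u hu => hu.1.2) ?_
    rintro _ ⟨a, ha, rfl⟩
    refine ⟨⟨S.τ_mem_C a, mem_centralizer_singleton_iff.2 (S.τ_commute.2 ((comm_Z1_iff a).2 ha))⟩, ?_⟩
    rintro _ ⟨x, hx, rfl⟩
    rw [← S.τ_cm]
    exact ⟨_, cm_inB_inJ x a hx ha, rfl⟩
  have hgK : g ∈ K := ⟨hg, mem_centralizer_singleton_iff.2 h1⟩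
  have hn : K ≤ normalizer (stab K (subB.map S.τ) (subZ2.map S.τ) hKZ : Set G) :=
    le_normalizer_stab le_normalizer (fun u hu => S.C_le_normalizer_B hO hu.1) hKZ
  have hgn := hn hgK
  rw [hP, S.normalizer_J, S.mem_T] at hgn
  obtain ⟨x, rfl⟩ := hgn
  exact ⟨x, (comm_Z1_iff x).1 (S.τ_commute.1 h1), rfl⟩

include hO in
theorem inf_cent_Z1 : S.C ⊓ centralizer ({S.τ Z1} : Set G) = subJ.map S.τ := by
  refine le_antisymm (fun g hg => ?_) ?_
  · obtain ⟨x, hx, e⟩ := S.cent_Z1_in_C hO hg.1 (mem_centralizer_singleton_iff.1 hg.2)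
    exact ⟨x, hx, e⟩
  · rintro _ ⟨a, ha, rfl⟩
    exact ⟨S.τ_mem_C a, mem_centralizer_singleton_iff.2 (S.τ_commute.2 ((comm_Z1_iff a).2 ha))⟩

theorem ncard_orbit (x : T0) (P : T0 → Bool)
    (h : ∀ y : T0, P y ↔ ∃ c ∈ S.C, c * S.τ x * c⁻¹ = S.τ y)
    (hin : ∀ c ∈ S.C, ∃ y : T0, c * S.τ x * c⁻¹ = S.τ y) :
    Nat.card S.C = Fintype.card {y : T0 // P y = true} *
      Nat.card (S.C ⊓ centralizer ({S.τ x} : Set G) : Subgroup G) := by
  haveI := Fintype.ofFinite G
  rw [SmallCent.card_eq_orbit_mul S.C (S.τ x)]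
  congr 1
  have : (fun c : G => c * S.τ x * c⁻¹) '' (S.C : Set G) = S.τ '' {y | P y = true} := by
    ext g
    constructor
    · rintro ⟨c, hc, rfl⟩
      obtain ⟨y, hy⟩ := hin c hc
      exact ⟨y, (h y).2 ⟨c, hc, hy⟩, hy.symm⟩
    · rintro ⟨y, hy, rfl⟩
      obtain ⟨c, hc, e⟩ := (h y).1 hy
      exact ⟨c, hc, e⟩
  rw [this, Set.ncard_image_of_injective _ S.τ_inj, ← Nat.card_coe_set_eq, Nat.card_eq_fintype_card]
  exact Fintype.card_congr (Equiv.refl _)

include hO in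
/-- The orbit of `z₁` stays in the even part of `U × U`. -/
theorem Orb.inW {x : T0} (hx : S.Orb x) : S4WreathLocal.inW x := by
  haveI := Fact.mk Nat.prime_two
  by_contra hW
  have hxB := Orb.inB S hO hx
  -- all of `C`- and `D`-elements lie in the orbit
  have hsmul : ∀ a y : T0, S.Orb a → (∃ t : T0, y = t * a * t⁻¹) → S.Orb y := by
    rintro a _ ha ⟨t, rfl⟩; exact Orb.smul S ha t
  have hC1 : S.Orb C1 := by
    have hback : ∀ y : T0, isC y → S.Orb y → S.Orb C1 := fun y hy hy' => by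
      obtain ⟨t, rfl⟩ := class_C y hy
      exact hsmul _ _ hy' ⟨t⁻¹, by group⟩
    rcases inB_classes x hxB |> Bool.or_eq_true_iff.1 with h | h
    · rcases Bool.or_eq_true_iff.1 h with h | h
      · exact absurd h hW
      · exact hback x h hx
    · exact hback _ (Bool.and_eq_true_iff.1 h).2 (Orb.mul_ZZ S hx)
  have hCD : ∀ y : T0, S4WreathLocal.inB y → ¬ S4WreathLocal.inW y → S.Orb y := by
    intro y hy hyW
    rcases inB_classes y hy |> Bool.or_eq_true_iff.1 with h | h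
    · rcases Bool.or_eq_true_iff.1 h with h | h
      · exact absurd h hyW
      · obtain ⟨t, rfl⟩ := class_C y h
        exact Orb.smul S hC1 t
    · obtain ⟨t, ht⟩ := class_C _ (Bool.and_eq_true_iff.1 h).2
      have := Orb.mul_ZZ S (Orb.smul S hC1 t)
      rwa [← ht, mul_assoc, show ZZ * ZZ = 1 by decide, mul_one] at this
  by_cases hE : S.Orb E0
  swap
  · -- the even part would be invariant
    obtain ⟨c, hc, e⟩ := hC1
    obtain ⟨hprod, hE', hC1W, hWmul, hZ1B⟩ := W_from_E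
    have hmove : ∀ y : T0, isE y → ∃ y' : T0, S4WreathLocal.inW y' ∧ c * S.τ y * c⁻¹ = S.τ y' := by
      intro y hy
      have hyB : S4WreathLocal.inB y := (show ∀ y : T0, isE y → S4WreathLocal.inB y by decide +kernel) y hy
      obtain ⟨y', hy', e'⟩ := S.conj_inB hO hc hyB
      refine ⟨y', ?_, e'⟩
      by_contra hW'
      have hoy : S.Orb y := Orb.conj S (hCD y' hy' hW') (S.C.inv_mem hc) (by rw [← e']; group)
      obtain ⟨t, rfl⟩ := class_E y hy
      exact hE (hsmul _ _ hoy ⟨t⁻¹, by group⟩)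
    obtain ⟨a, ha, ea⟩ := hmove E0 (by rfl)
    obtain ⟨b, hb, eb⟩ := hmove _ hE'
    have : C1 = a * b := S.τ_inj (by rw [← e, hprod, map_mul, map_mul, ← conj_mul, ea, eb])
    rw [this] at hC1W
    simp [hWmul a b ha hb] at hC1W
  -- now the orbit is everything outside the centre
  have hall : ∀ y : T0, (S4WreathLocal.inB y && !inZ y) ↔ S.Orb y := by
    intro y
    simp only [Bool.and_eq_true, Bool.not_eq_true']
    refine ⟨fun ⟨hy, hz⟩ => ?_, fun h => ⟨Orb.inB S hO h, by simpa using h.not_inZ S⟩⟩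
    by_cases hyW : S4WreathLocal.inW y
    · have := inW_elems y hyW
      simp only [Bool.or_eq_true, beq_iff_eq] at this
      rcases this with ((h | rfl) | rfl) | h
      · simp [h] at hz
      · exact S.orb_Z1
      · exact S.orb_Z2
      · obtain ⟨t, rfl⟩ := class_E y h; exact Orb.smul S hE t
    · exact hCD y hy hyW
  have hcardC : Nat.card S.C = 896 := by
    rw [S.ncard_orbit Z1 (fun y => S4WreathLocal.inB y && !inZ y) hall
      (fun c hc => (S.conj_inB hO hc (x := Z1) (by rfl)).imp fun _ h => h.2),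
      S.inf_cent_Z1 hO, S.card_J, card_inB.1]
  -- the 2-core is `U × U`
  have hB2 := S.isPGroup_map subB
  have hBC : subB.map S.τ ≤ S.C := by rintro _ ⟨a, -, rfl⟩; exact S.τ_mem_C a
  have hQB : S.Q = subB.map S.τ := by
    refine le_antisymm (fun g hg => ?_) (S.le_Q hBC (S.C_le_normalizer_B hO) hB2)
    obtain ⟨t, rfl⟩ := S.mem_T.1 (S.Q_le_T hg)
    refine ⟨t, inB_quot t fun y hy => ?_, rfl⟩
    by_cases hz : inZ y
    · exact (show ∀ t y : T0, inZ y → inZ (cm t y) by decide +kernel) t y hz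
    · exact ((hall y).1 (by simp [hy, hz])).cm_mem S hg
  set B' : Subgroup S.C := (subB.map S.τ).subgroupOf S.C with hB'
  haveI hBn : B'.Normal :=
    (normal_subgroupOf_iff_le_normalizer hBC).2 (S.C_le_normalizer_B hO)
  have hcardB : Nat.card (subB.map S.τ) = 16 := by
    rw [S.card_map, ← card_inB.2.1, ← Nat.card_eq_fintype_card]
    exact Nat.card_congr (Equiv.subtypeEquivRight fun _ => Iff.rfl)
  have h56 : Nat.card (S.C ⧸ B') = 56 := by
    have := card_mul_index B'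
    rw [Nat.card_congr (subgroupOfEquivOfLe hBC).toEquiv, hcardB, hcardC, index_eq_card] at this
    omega
  have hno : ∀ R : Subgroup (S.C ⧸ B'), R.Normal → Nat.card R ≠ 8 := by
    intro R hR h8
    have hk : IsPGroup 2 ↥(R.comap (QuotientGroup.mk' B')) := by
      refine (IsPGroup.of_card (n := 3) (by rw [h8]; norm_num) : IsPGroup 2 ↥R).comap_of_ker_isPGroup _ ?_
      rw [QuotientGroup.ker_mk']
      exact hB2.comap_subtype
    have hle : (R.comap (QuotientGroup.mk' B')).map S.C.subtype ≤ S.Q := by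
      refine S.le_Q (map_subtype_le _) ?_ (hk.map _)
      rw [le_normalizer_iff]
      rintro c hc _ ⟨r, hr, rfl⟩
      exact ⟨⟨c, hc⟩ * r * ⟨c, hc⟩⁻¹, (hR.comap _).conj_mem r hr ⟨c, hc⟩, rfl⟩
    rw [hQB] at hle
    have hbot : R = ⊥ := by
      rw [eq_bot_iff]
      intro r hr
      obtain ⟨c, rfl⟩ := QuotientGroup.mk'_surjective B' r
      rw [mem_bot, ← MonoidHom.mem_ker, QuotientGroup.ker_mk']
      exact hle ⟨c, hr, rfl⟩
    rw [hbot] at h8
    simp at h8
  obtain ⟨hcm, hVV, -⟩ := cm_SW_V1e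
  obtain ⟨u, hu7, hucomm⟩ := exists_order_seven_commute h56 hno
    (QuotientGroup.mk' B' ⟨S.τ SW, S.τ_mem_C _⟩) (QuotientGroup.mk' B' ⟨S.τ V1e, S.τ_mem_C _⟩)
  obtain ⟨c, rfl⟩ := QuotientGroup.mk'_surjective B' u
  have hw : QuotientGroup.mk' B' ⟨S.τ SW, S.τ_mem_C _⟩ * QuotientGroup.mk' B' ⟨S.τ V1e, S.τ_mem_C _⟩ *
      (QuotientGroup.mk' B' ⟨S.τ SW, S.τ_mem_C _⟩)⁻¹ * (QuotientGroup.mk' B' ⟨S.τ V1e, S.τ_mem_C _⟩)⁻¹ =
      QuotientGroup.mk' B' ⟨S.τ VV, S.τ_mem_C _⟩ := by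
    rw [← map_inv, ← map_inv, ← map_mul, ← map_mul, ← map_mul]
    congr 1
    exact Subtype.ext (by rw [← hcm]; exact (S.τ_cm SW V1e).symm)
  rw [hw] at hucomm
  have hb : (c : G)⁻¹ * S.τ VV * c * (S.τ VV)⁻¹ ∈ subB.map S.τ := by
    have : c⁻¹ * ⟨S.τ VV, S.τ_mem_C _⟩ * c * ⟨S.τ VV, S.τ_mem_C _⟩⁻¹ ∈ B' := by
      rw [← QuotientGroup.eq_one_iff]
      show QuotientGroup.mk' B' _ = 1
      rw [map_mul, map_mul, map_mul, map_inv, map_inv, mul_assoc (_⁻¹), hucomm.eq]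
      group
    exact this
  obtain ⟨y, hy, ey⟩ := S.conj_inB hO c.2 (x := Z1) (by rfl)
  obtain ⟨b, hbB, eb⟩ := hb
  have hcomm : y * VV = VV * y := by
    refine S.τ_commute.1 ?_
    rw [← ey]
    have h1 : Commute (S.τ (b * VV)) (S.τ Z1) := S.τ_commute.2 (by
      rw [mul_assoc, hVV, ← mul_assoc,
        (show ∀ b : T0, S4WreathLocal.inB b → b * Z1 = Z1 * b by decide +kernel) b hbB, mul_assoc])
    have h2 := (Commute.conj_iff (c : G)).2 h1
    rw [map_mul, eb, show (c : G) * ((c : G)⁻¹ * S.τ VV * c * (S.τ VV)⁻¹ * S.τ VV) * (c : G)⁻¹ = S.τ VV by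
      group] at h2
    exact h2.symm
  have hy2 := fix_VV y hy hcomm
  have horb : S.Orb y := ⟨c, c.2, ey⟩
  have hsq : Commute ((c : G) * c) (S.τ Z1) := by
    have hfour : ∀ y : T0, inZ2 y → inZ y ∨ y = Z1 ∨ y = Z1 * ZZ := by decide +kernel
    rcases hfour y hy2 with h | rfl | rfl
    · exact absurd h (horb.not_inZ S)
    · have h : Commute (c : G) (S.τ Z1) := mul_inv_eq_iff_eq_mul.1 ey
      exact h.mul_left h
    · refine mul_inv_eq_iff_eq_mul.1 ?_
      rw [show (c : G) * c * S.τ Z1 * ((c : G) * c)⁻¹ = c * ((c : G) * S.τ Z1 * (c : G)⁻¹) * (c : G)⁻¹ by group, ey,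
        map_mul, ← conj_mul, ey, S.C_conj_ZZ c.2, ← map_mul, mul_assoc, show ZZ * ZZ = 1 by decide, mul_one]
  obtain ⟨j, -, ej⟩ := S.cent_Z1_in_C hO (S.C.mul_mem c.2 c.2) hsq
  obtain ⟨k, hk⟩ := S.T.2 ⟨(c : G) * c, ej ▸ S.τ_mem j⟩
  have hpow : (QuotientGroup.mk' B' c) ^ (2 * 2 ^ k) = 1 := by
    rw [pow_mul, pow_two, ← map_mul, ← map_pow, show (c * c) ^ 2 ^ k = (1 : S.C) from
      Subtype.ext (by simpa using congrArg Subtype.val hk), map_one]
  have := orderOf_dvd_of_pow_eq_one hpow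
  rw [hu7, show 2 * 2 ^ k = 2 ^ (k + 1) by rw [pow_succ']] at this
  exact absurd ((by norm_num : Nat.Prime 7).dvd_of_dvd_pow this) (by norm_num)

include hO in
theorem orb_E0 : S.Orb E0 := by
  by_contra hE
  refine S.two_case hO fun x hx => ?_
  have := inW_elems x (Orb.inW S hO hx)
  simp only [Bool.or_eq_true, beq_iff_eq] at this
  rcases this with ((h | h) | h) | h
  · exact absurd h (hx.not_inZ S)
  · exact Or.inl h
  · exact Or.inr h
  · obtain ⟨t, rfl⟩ := class_E x h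
    have := Orb.smul S hx t⁻¹
    rw [show t⁻¹ * (t * E0 * t⁻¹) * t⁻¹⁻¹ = E0 by group] at this
    exact absurd this hE

include hO in
theorem orb_iff (x : T0) : S.Orb x ↔ (x == Z1 || x == Z2 || isE x) := by
  simp only [Bool.or_eq_true, beq_iff_eq]
  constructor
  · intro hx
    have := inW_elems x (Orb.inW S hO hx)
    simp only [Bool.or_eq_true, beq_iff_eq] at this
    rcases this with ((h | h) | h) | h
    · exact absurd h (hx.not_inZ S)
    · exact Or.inl (Or.inl h)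
    · exact Or.inl (Or.inr h)
    · exact Or.inr h
  · rintro ((rfl | rfl) | h)
    · exact S.orb_Z1
    · exact S.orb_Z2
    · obtain ⟨t, rfl⟩ := class_E x h
      exact Orb.smul S (S.orb_E0 hO) t

include hO in
theorem card_C : Nat.card S.C = 384 := by
  rw [S.ncard_orbit Z1 (fun y => y == Z1 || y == Z2 || isE y) (fun y => (S.orb_iff hO y).symm)
    (fun c hc => (S.conj_inB hO hc (x := Z1) (by rfl)).imp fun _ h => h.2),
    S.inf_cent_Z1 hO, S.card_J, card_inB.2.2]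

include hO in
theorem C_le_normalizer_W : S.C ≤ normalizer (subW.map S.τ : Set G) := by
  rw [le_normalizer_iff]
  rintro c hc _ ⟨x, hx, rfl⟩
  have h := inW_elems x hx
  simp only [Bool.or_eq_true, inZ, beq_iff_eq] at h
  have horb : S.Orb x → c * S.τ x * c⁻¹ ∈ subW.map S.τ := by
    intro ho
    obtain ⟨y, -, e⟩ := S.conj_inB hO hc (Orb.inB S hO ho)
    exact ⟨y, Orb.inW S hO (Orb.conj S ho hc e), e.symm⟩
  rcases h with (((rfl | rfl) | rfl) | rfl) | h'
  · simp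
  · rw [S.C_conj_ZZ hc]; exact ⟨_, by rfl, rfl⟩
  · exact horb S.orb_Z1
  · exact horb S.orb_Z2
  · exact horb ((S.orb_iff hO x).2 (by simp [h']))

include hO in
theorem C_le_normalizer_E : S.C ≤ normalizer (subE.map S.τ : Set G) := by
  have h2 : IsPGroup 2 ↥(zpowers (S.τ ZZ)) := S.T.2.to_le (zpowers_le.2 (S.τ_mem ZZ))
  have hCz : S.C ≤ normalizer (zpowers (S.τ ZZ) : Set G) := by
    rw [C, ← centralizer_closure, ← zpowers_eq_closure]; exact centralizer_le_normalizer _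
  set R := stab S.C (subW.map S.τ) (zpowers (S.τ ZZ)) hCz with hR
  have hR2 : IsPGroup 2 ↥R := by
    refine isPGroup_stab h2 (fun u hu _ p hp => ?_) fun u hu ho hc => ?_
    · obtain ⟨i, rfl⟩ := mem_zpowers_iff.1 hp
      exact (S.mem_C.1 hu).zpow_right i
    · obtain ⟨x, -, rfl⟩ := S.cent_Z1_in_C hO hu (hc _ ⟨Z1, by rfl, rfl⟩)
      haveI := Fact.mk Nat.prime_two
      exact Balance.eq_one_of_mem_pGroup_of_coprime S.T.2 (S.τ_mem x) (odd_of ho)
  have hn : S.C ≤ normalizer (R : Set G) :=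
    le_normalizer_stab le_normalizer (S.C_le_normalizer_W hO) hCz
  have hzmem : ∀ a : T0, S.τ a ∈ zpowers (S.τ ZZ) → inZ a := by
    intro a ha
    have hle : zpowers (S.τ ZZ) ≤ (mkSub inZ (by decide) (by decide +kernel) (by decide +kernel)).map S.τ :=
      zpowers_le.2 ⟨ZZ, by rfl, rfl⟩
    exact S.mem_map_τ.1 (hle ha)
  have hRE : R = subE.map S.τ := by
    refine le_antisymm (fun g hg => ?_) ?_
    · obtain ⟨t, rfl⟩ := S.mem_T.1 (S.Q_le_T (S.le_Q (fun c hc => (mem_stab.1 hc).1) hn hR2 hg))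
      refine ⟨t, (cm_inW_iff t).1 fun w hw => ?_, rfl⟩
      refine hzmem _ ?_
      have := (mem_stab.1 hg).2 _ ⟨w, hw, rfl⟩
      rw [show cm t w = (cm w t)⁻¹ by simp [cm, mul_assoc], map_inv, S.τ_cm]
      exact inv_mem this
    · rintro _ ⟨t, ht, rfl⟩
      refine ⟨S.τ_mem_C t, ?_⟩
      rintro _ ⟨w, hw, rfl⟩
      have := (cm_inW_iff t).2 ht w hw
      rw [← S.τ_cm, show cm w t = (cm t w)⁻¹ by simp [cm, mul_assoc], map_inv]
      refine inv_mem ?_
      simp only [inZ, Bool.or_eq_true, beq_iff_eq] at this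
      rcases this with h | h <;> rw [h]
      · rw [map_one]; exact one_mem _
      · exact mem_zpowers _
  rw [← hRE]
  exact hn

include hO in
theorem conj_E_Z1 : IsConj (S.τ Z1) (S.τ E0) := by
  obtain ⟨c, -, e⟩ := S.orb_E0 hO
  exact isConj_iff.2 ⟨c, e⟩

include hO in
theorem conj_SW_ZZ : IsConj (S.τ SW) (S.τ ZZ) := by
  obtain ⟨c, hc, e⟩ := S.orb_E0 hO
  obtain ⟨b, hb, eb⟩ := S.conj_inB hO hc (x := C1) (by rfl)
  obtain ⟨x, hx, ex⟩ := S.exists_pull (H := subE) (S.C_le_normalizer_E hO hc) VV (by rfl)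
  have hcm : cm b x = E0 := S.τ_inj (by
    rw [S.τ_cm, ← eb, ← ex, ← e, ← cm_C1_VV, S.τ_cm]; group)
  have hxJ : !inJ x := by
    by_contra h
    simp only [Bool.not_eq_true', Bool.not_eq_false] at h
    have := cm_inEJ x b hx h hb
    rw [hcm] at this
    exact absurd this (by decide)
  have hx2 : x * x = 1 := S.τ_inj (by
    rw [map_mul, ← ex, conj_mul, ← map_mul, show VV * VV = 1 by decide, map_one]; group)
  exact ((S.conj_S (notJ_inE_inv x hxJ hx2)).trans (isConj_iff.2 ⟨c, ex⟩).symm).trans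
    (S.conj_of_W _ conj_VV).symm

include hO in
/-- The orbit of `(sr 1, 1)` under the centraliser. -/
theorem C_orbit_C {c : G} (hc : c ∈ S.C) {x : T0} (hx : isC x) :
    ∃ y : T0, isC y ∧ c * S.τ x * c⁻¹ = S.τ y := by
  obtain ⟨hxB, hxW⟩ := Bool.and_eq_true_iff.1 (isC_inB x hx)
  have hstep : ∀ d ∈ S.C, ∃ y : T0, (inB y && !inW y) ∧ d * S.τ x * d⁻¹ = S.τ y := by
    intro d hd
    obtain ⟨y, hy, e⟩ := S.conj_inB hO hd hxB
    refine ⟨y, by
      simp only [Bool.and_eq_true, Bool.not_eq_true', hy, true_and]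
      by_contra hyW
      simp only [Bool.not_eq_false] at hyW
      have h := (mem_normalizer_iff.1 (S.C_le_normalizer_W hO (S.C.inv_mem hd)) _).1 ⟨y, hyW, rfl⟩
      rw [← e, show d⁻¹ * (d * S.τ x * d⁻¹) * d⁻¹⁻¹ = S.τ x by group] at h
      have h' : S4WreathLocal.inW x := S.mem_map_τ.1 h
      simp [h'] at hxW, e⟩
  obtain ⟨y, hy, e⟩ := hstep c hc
  refine ⟨y, ?_, e⟩
  obtain ⟨hyB, hyW⟩ := Bool.and_eq_true_iff.1 hy
  rcases Bool.or_eq_true_iff.1 (C_or_D y hyB (by simpa using hyW)) with h | h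
  · exact h
  exfalso
  have hall : ∀ w : T0, (inB w && !inW w) ↔ ∃ d ∈ S.C, d * S.τ x * d⁻¹ = S.τ w := by
    intro w
    refine ⟨fun hw => ?_, fun ⟨d, hd, ed⟩ => ?_⟩
    · obtain ⟨hwB, hwW⟩ := Bool.and_eq_true_iff.1 hw
      rcases Bool.or_eq_true_iff.1 (C_or_D w hwB (by simpa using hwW)) with h' | h'
      · obtain ⟨t1, ht1⟩ := class_C x hx
        obtain ⟨t2, ht2⟩ := class_C w h'
        exact ⟨S.τ (t2 * t1⁻¹), S.τ_mem_C _, by
          rw [← map_inv, ← map_mul, ← map_mul, ht1, ht2]; congr 1; group⟩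
      · obtain ⟨t, rfl⟩ := class_D_inB y hyB h w hwB h'
        exact ⟨S.τ t * c, S.C.mul_mem (S.τ_mem_C t) hc, by
          rw [map_mul, map_mul, map_inv, ← e]; group⟩
    · obtain ⟨y', hy', e'⟩ := hstep d hd
      rwa [S.τ_inj (ed.symm.trans e')]
  have hcard := S.ncard_orbit x (fun w => inB w && !inW w) hall
    (fun d hd => (hstep d hd).imp fun _ h => h.2)
  rw [S.card_C hO, card_CD.1] at hcard
  have hle : (cent0 x).map S.τ ≤ S.C ⊓ centralizer ({S.τ x} : Set G) := by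
    rintro _ ⟨t, ht, rfl⟩
    exact ⟨S.τ_mem_C t, mem_centralizer_singleton_iff.2 (S.τ_commute.2 (mem_centralizer_singleton_iff.1 ht))⟩
  have hdvd := card_dvd_of_le hle
  rw [S.card_map, card_cent0, (show ∀ x : T0, isC x → centCard x = 32 by decide +kernel) x hx] at hdvd
  omega

include hO in
theorem cent_V1e_trivial {u : G} (hu : u ∈ S.C) (ho : Odd (orderOf u)) (h : Commute u (S.τ V1e)) : u = 1 := by
  have hperm : ∀ x : T0, isC x → ∃ y : T0, isC y ∧ (y * V1e = V1e * y ↔ x * V1e = V1e * x) ∧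
      u * S.τ x * u⁻¹ = S.τ y := by
    intro x hx
    obtain ⟨y, hy, e⟩ := S.C_orbit_C hO hu hx
    refine ⟨y, hy, ?_, e⟩
    have hv : u * S.τ V1e * u⁻¹ = S.τ V1e := by rw [h.eq]; group
    rw [← S.τ_commute, ← S.τ_commute, ← e]
    conv_lhs => rw [← hv]
    exact Commute.conj_iff u
  have hsq : ∀ x : T0, isC x → Commute (u * u) (S.τ x) := by
    intro x hx
    obtain ⟨y, hy, hiy, ey⟩ := hperm x hx
    obtain ⟨z, hz, hiz, ez⟩ := hperm y hy
    refine mul_inv_eq_iff_eq_mul.1 ?_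
    rw [show u * u * S.τ x * (u * u)⁻¹ = u * (u * S.τ x * u⁻¹) * u⁻¹ by group, ey, ez]
    have hinj : x = y → y = z := fun hxy =>
      S.τ_inj (ey.symm.trans ((congrArg (fun w => u * S.τ w * u⁻¹) hxy).trans ez))
    have hne : x ≠ y → y ≠ z := fun hxy hyz => hxy (S.τ_inj (mul_left_cancel (mul_right_cancel
      ((ey.trans (congrArg S.τ hyz)).trans ez.symm))))
    have key : ∀ x : T0, isC x → ∀ y : T0, isC y → (y * V1e = V1e * y ↔ x * V1e = V1e * x) →
        ∀ z : T0, isC z → (z * V1e = V1e * z ↔ y * V1e = V1e * y) →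
        (x = y → y = z) → (x ≠ y → y ≠ z) → z = x := by decide +kernel
    exact congrArg S.τ (key x hx y hy hiy z hz hiz hinj hne)
  refine S.eq_one_of_cent subB_normal (ne_bot_of (x := Z1) (by rfl) (by decide)) (fun t ht => cent_inB t ht)
    ho fun x hx => commute_of_sq ho ?_
  obtain ⟨i, j, k, l, rfl⟩ := gens_B x hx
  simp only [map_mul]
  have hb : ∀ (i : Bool) (a : T0), isC a → Commute (u * u) (S.τ (bif i then a else 1)) := by
    intro i a ha; cases i
    · rw [cond_false, map_one]; exact Commute.one_right _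
    · exact hsq a ha
  exact (((hb i C1 (by rfl)).mul_right (hb j C1' (by rfl))).mul_right (hb k C2 (by rfl))).mul_right
    (hb l C2' (by rfl))

include hO in
/-- An odd element of the centraliser commuting with an involution of `V × 1` outside the centre is trivial. -/
theorem cent_A_trivial {x : T0} (hx : isA x) (hx2 : !inZ2 x) {u : G} (hu : u ∈ S.C)
    (ho : Odd (orderOf u)) (h : Commute u (S.τ x)) : u = 1 := by
  obtain ⟨t, rfl⟩ := small_A_class x hx hx2
  have h1 : (S.τ t)⁻¹ * u * S.τ t = 1 := by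
    refine S.cent_V1e_trivial hO (S.C.mul_mem (S.C.mul_mem (S.C.inv_mem (S.τ_mem_C t)) hu) (S.τ_mem_C t)) ?_ ?_
    · have e : orderOf ((S.τ t)⁻¹ * u * S.τ t) = orderOf u := by
        have := orderOf_injective (MulAut.conj (S.τ t)⁻¹).toMonoidHom (MulAut.conj _).injective u
        simpa using this
      rwa [e]
    · have := (Commute.conj_iff (S.τ t)⁻¹).2 h
      rwa [show (S.τ t)⁻¹ * u * (S.τ t)⁻¹⁻¹ = (S.τ t)⁻¹ * u * S.τ t by group,
        show (S.τ t)⁻¹ * S.τ (t * V1e * t⁻¹) * (S.τ t)⁻¹⁻¹ = S.τ V1e by simp [mul_assoc]] at this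
  calc u = S.τ t * ((S.τ t)⁻¹ * u * S.τ t) * (S.τ t)⁻¹ := by group
    _ = 1 := by rw [h1]; group

end Cfg

end Cfsg.Agent.S4WreathLocal
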