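import Cfsg.Agent.Lib.S4WreathLocal.Model

/-!
# Facts about `D₈ ≀ 2` verified by computation
-/

set_option autoImplicit false
set_option linter.style.maxHeartbeats false

namespace Cfsg.Agent.S4WreathLocal

/-- The element `(sr 1, z)`. -/
def D0 : T0 := ⟨DihedralGroup.sr 1, DihedralGroup.r 2, false⟩

/-- The subgroup generated by `ZZ`. -/
def inZ (x : T0) : Bool := x == 1 || x == ZZ

theorem cm_Z1 : ∀ t : T0, inZ (cm t Z1) := by decide +kernel

theorem comm_Z1_iff : ∀ t : T0, t * Z1 = Z1 * t ↔ inJ t := by decide +kernel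

theorem comm_ZZ : ∀ t : T0, t * ZZ = ZZ * t := by decide +kernel

theorem cm_inJ : ∀ x y : T0, inJ x → inJ y → inZ2 (cm x y) := by decide +kernel

theorem cent_inA : ∀ t : T0, (∀ x : T0, inA x → t * x = x * t) → inA t := by decide +kernel

theorem cent_inB : ∀ t : T0, (∀ x : T0, inB x → t * x = x * t) → inB t := by decide +kernel

theorem cent_inJ : ∀ t : T0, (∀ x : T0, inJ x → t * x = x * t) → inJ t := by decide +kernel

theorem cent_inE : ∀ t : T0, (∀ x : T0, inE x → t * x = x * t) → inE t := by decide +kernel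

theorem root_ZZ : ∀ x y : T0, inJ x → x * x = ZZ → inJ y → y * y = ZZ → x * y = y * x := by
  decide +kernel

theorem root_Z1 : ∃ x y : T0, inJ x ∧ inJ y ∧ x * x = Z1 ∧ y * y = Z1 ∧ x * y ≠ y * x :=
  ⟨⟨.r 1, .sr 0, false⟩, ⟨.r 1, .sr 1, false⟩, by decide +kernel⟩

theorem root_Z2 : ∃ x y : T0, inJ x ∧ inJ y ∧ x * x = Z2 ∧ y * y = Z2 ∧ x * y ≠ y * x :=
  ⟨⟨.sr 0, .r 1, false⟩, ⟨.sr 1, .r 1, false⟩, by decide +kernel⟩

/-- The preimage in `D₈ × D₈` of one factor. -/
def inX1 (x : T0) : Bool := !x.s && inC x.b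
/-- The preimage in `D₈ × D₈` of the other factor. -/
def inX2 (x : T0) : Bool := !x.s && inC x.a

theorem inX1_iff : ∀ x : T0, inJ x → (inX1 x ↔ ∀ y : T0, inJ y → cm x y = 1 ∨ cm x y = Z1) := by
  decide +kernel

theorem inX2_iff : ∀ x : T0, inJ x → (inX2 x ↔ ∀ y : T0, inJ y → cm x y = 1 ∨ cm x y = Z2) := by
  decide +kernel

theorem inX1_sq : ∀ x y : T0, inX1 x → x * x ≠ 1 → inX1 y → y * y ≠ 1 → inZ2 (y * x⁻¹) := by
  decide +kernel

theorem inX1_three : ∀ x : T0, inX1 x → ∀ y : T0, inX1 y → ∀ w : T0, inX1 w →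
    (!(x * x == 1 && y * y == 1 && w * w == 1) || inZ2 x || inZ2 y || inZ2 w ||
      inZ2 (y * x⁻¹) || inZ2 (w * y⁻¹) || inZ2 (w * x⁻¹)) = true := by
  decide +kernel

theorem inX2_sq : ∀ x y : T0, inX2 x → x * x ≠ 1 → inX2 y → y * y ≠ 1 → inZ2 (y * x⁻¹) := by
  decide +kernel

theorem inX2_three : ∀ x : T0, inX2 x → ∀ y : T0, inX2 y → ∀ w : T0, inX2 w →
    (!(x * x == 1 && y * y == 1 && w * w == 1) || inZ2 x || inZ2 y || inZ2 w ||
      inZ2 (y * x⁻¹) || inZ2 (w * y⁻¹) || inZ2 (w * x⁻¹)) = true := by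
  decide +kernel

theorem inJ_split : ∀ x : T0, inJ x →
    inX1 ⟨x.a, 1, false⟩ ∧ inX2 ⟨1, x.b, false⟩ ∧ x = ⟨x.a, 1, false⟩ * ⟨1, x.b, false⟩ := by
  decide +kernel

/-- The elements of `T` commuting with `x`. -/
def centCard (x : T0) : ℕ := (Finset.univ.filter fun t => t * x = x * t).card

theorem centCard_S : ∀ x : T0, isS x → centCard x = 16 := by decide +kernel

theorem centCard_reps :
    32 ≤ centCard Z1 ∧ 32 ≤ centCard ZZ ∧ 32 ≤ centCard C1 ∧ 32 ≤ centCard D0 ∧ 32 ≤ centCard E0 := by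
  decide +kernel

theorem SW_comm : ⟨DihedralGroup.sr 0, DihedralGroup.sr 0, false⟩ * SW = SW * ⟨DihedralGroup.sr 0, DihedralGroup.sr 0, false⟩ ∧
    E0 * SW = SW * E0 ∧ cm VV E0 = ZZ ∧ VV * SW = SW * VV := by decide +kernel

theorem cm_cent : ∀ j : T0, (isA j || isC j || isD j || isE j) →
    ∀ x : T0, x * j = j * x → ∀ y : T0, y * j = j * y →
    inZ (cm x y) || isA (cm x y) || (isE j && isE (cm x y)) := by
  decide +kernel

theorem class_A : ∀ x : T0, isA x →
    ∃ t : T0, x = t * Z1 * t⁻¹ ∨ x = t * V1e * t⁻¹ := by decide +kernel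

theorem class_Z : ∀ x : T0, isZ x → ∃ t : T0, x = t * ZZ * t⁻¹ ∨ x = t * VV * t⁻¹ ∨
    x = t * ⟨DihedralGroup.sr 0, DihedralGroup.r 2, false⟩ * t⁻¹ := by decide +kernel

theorem class_C : ∀ x : T0, isC x → ∃ t : T0, x = t * C1 * t⁻¹ := by decide +kernel

theorem class_D : ∀ x : T0, isD x → ∃ t : T0, x = t * D0 * t⁻¹ ∨
    x = t * ⟨DihedralGroup.sr 1, DihedralGroup.sr 0, false⟩ * t⁻¹ := by decide +kernel

theorem class_E : ∀ x : T0, isE x → ∃ t : T0, x = t * E0 * t⁻¹ := by decide +kernel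

theorem class_S : ∀ x : T0, isS x → ∃ t : T0, x = t * SW * t⁻¹ := by decide +kernel

theorem small_to_inJ : ∀ w : T0, (isA w && !inZ2 w || isC w || isD w) →
    ∀ t : T0, inZ (cm t w) → inJ t := by decide +kernel

theorem cent_class_A : ∀ t : T0, (∀ k : T0, t * (k * V1e * k⁻¹) = k * V1e * k⁻¹ * t) → inA t := by
  decide +kernel

theorem cent_class_C : ∀ t : T0, (∀ k : T0, t * (k * C1 * k⁻¹) = k * C1 * k⁻¹ * t) → inB t := by
  decide +kernel

theorem cent_class_D0 : ∀ t : T0, (∀ k : T0, t * (k * D0 * k⁻¹) = k * D0 * k⁻¹ * t) → inB t := by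
  decide +kernel

theorem cent_class_D1 : ∀ t : T0,
    (∀ k : T0, t * (k * ⟨DihedralGroup.sr 1, DihedralGroup.sr 0, false⟩ * k⁻¹) =
      k * ⟨DihedralGroup.sr 1, DihedralGroup.sr 0, false⟩ * k⁻¹ * t) → inZ2 t := by
  decide +kernel

theorem cm_class_S : ∀ t : T0, (∀ k : T0, inZ (cm t (k * SW * k⁻¹))) → inF t := by decide +kernel

theorem cm_E0 : ∀ t : T0, inZ (cm t E0) → inE t := by decide +kernel

theorem inF_inE : ∀ t : T0, inF t → inE t := by decide +kernel

theorem inF_classes : ∀ x : T0, inF x → x * x = 1 →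
    inZ x || isZ x || x == Z1 || x == Z2 || isE x || isS x := by decide +kernel

/-- The two possible orbits containing an interchanging involution. -/
def inO (withE : Bool) (x : T0) : Bool := x == Z1 || x == Z2 || isS x || (withE && isE x)

theorem orbit_degree : ∀ b : Bool,
    (Finset.univ.filter fun y => inO b y && decide (y * Z1 = Z1 * y)).card ≠
      (Finset.univ.filter fun y => inO b y && decide (y * SW = SW * y)).card := by decide +kernel

theorem inW_elems : ∀ x : T0, inW x → inZ x || x == Z1 || x == Z2 || isE x := by decide +kernel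

theorem inW_of : ∀ x : T0, (inZ x || x == Z1 || x == Z2 || isE x) → inW x := by decide +kernel

theorem cent_inW : ∀ t : T0, (∀ w : T0, inW w → t * w = w * t) ↔ inB t := by decide +kernel

theorem cm_inE_inB : ∀ x y : T0, inE x → inB y → inW (cm x y) := by decide +kernel

theorem cm_inW_iff : ∀ t : T0, (∀ w : T0, inW w → inZ (cm t w)) ↔ inE t := by decide +kernel

theorem cm_inB_inJ : ∀ x y : T0, inB x → inJ y → inZ2 (cm x y) := by decide +kernel

theorem fix_VV : ∀ x : T0, inB x → x * VV = VV * x → inZ2 x := by decide +kernel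

theorem cm_inEJ : ∀ x y : T0, inE x → inJ x → inB y → inZ2 (cm y x) := by decide +kernel

theorem cm_C1_VV : cm C1 VV = Z1 := by decide +kernel

theorem notJ_inE_inv : ∀ x : T0, !inJ x → x * x = 1 → isS x := by decide +kernel

theorem inB_classes : ∀ x : T0, inB x → inW x || isC x || (isD x && isC (x * ZZ)) := by
  decide +kernel

theorem centCard_C : centCard C1 = 32 := by decide +kernel

end Cfsg.Agent.S4WreathLocal
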