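import Cfsg.Agent.Lib.S4WreathLocal.Facts2

/-!
# Facts used for the normaliser of `U × U`
-/

set_option autoImplicit false
set_option linter.style.maxHeartbeats false

namespace Cfsg.Agent.S4WreathLocal

/-- `V × U`. -/
def inVU (x : T0) : Bool := !x.s && inV x.a && inU x.b
/-- `U × V`. -/
def inUV (x : T0) : Bool := !x.s && inU x.a && inV x.b
/-- A maximal subgroup of `D₈ ≀ 2`. -/
def inQ0 (x : T0) : Bool := inV x.a == inV x.b

theorem comm_inv_pair : ∀ a b : D, a * a = 1 → b * b = 1 → a * b = b * a →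
    (inV a && inV b) || (inU a && inU b) := by decide +kernel

theorem isS_cent : ∀ y : T0, isS y → ∃ t : T0, t * y = y * t ∧ t * t ≠ 1 := by decide +kernel

theorem card_four_elementary :
    Fintype.card {x : T0 // inA x} = 16 ∧ Fintype.card {x : T0 // inVU x} = 16 ∧
      Fintype.card {x : T0 // inUV x} = 16 := by decide +kernel

theorem cross_J : ∀ j : T0, inJ j → ∀ x : T0,
    (inVU x → inVU (j * x * j⁻¹)) ∧ (inUV x → inUV (j * x * j⁻¹)) := by decide +kernel

theorem cross_not_normal : (∃ x : T0, inVU x ∧ !inVU (SW * x * SW⁻¹)) ∧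
    (∃ x : T0, inUV x ∧ !inUV (SW * x * SW⁻¹)) := by decide +kernel

theorem center_T0 : ∀ x : T0, (∀ y : T0, x * y = y * x) → inZ x := by decide +kernel

theorem centCard_orbit : centCard Z1 = 64 ∧ ∀ x : T0, isE x → centCard x = 32 := by decide +kernel

theorem inQ0_inv : ∀ x : T0, inQ0 x → x * x = 1 → x = 1 ∨ isA x ∨ isZ x ∨ isE x ∨ isS x := by
  decide +kernel

theorem card_inQ0 : Fintype.card {x : T0 // inQ0 x} = 64 ∧ !inQ0 C1 ∧ C1 * C1 = 1 := by decide +kernel

/-- The twist of the small orbit. -/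
def tw (d : Bool) : T0 := bif d then ZZ else 1

/-- The orbit of the central involution under the normaliser of `U × U`. -/
def inP (d : Bool) (x : T0) : Bool :=
  x == ZZ || (inB x && !inW x && (bif d then isD x else isC x))

theorem inP_mem : ∀ d : Bool,
    inP d ZZ ∧ inP d (C1 * tw d) ∧ inP d (C1' * tw d) ∧ inP d (C2 * tw d) ∧ inP d (C2' * tw d) := by
  decide +kernel

theorem inP_gens : ∀ (d : Bool) (x : T0), inB x → ∃ e i j k l : Bool,
    x = (bif e then ZZ else 1) * (bif i then C1 * tw d else 1) * (bif j then C1' * tw d else 1) *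
      (bif k then C2 * tw d else 1) * (bif l then C2' * tw d else 1) := by decide +kernel

theorem inP_card : ∀ d : Bool, Fintype.card {x : T0 // inP d x} = 5 := by decide +kernel

theorem inP_inB : ∀ (d : Bool) (x : T0), inP d x → inB x := by decide +kernel

theorem V2e_act : ∀ (d : Bool) (x y : T0), inP d x → y = V2e * x * V2e⁻¹ →
    y = (if x = C2 * tw d then C2' * tw d else if x = C2' * tw d then C2 * tw d else x) := by
  decide +kernel

theorem V1e_act : ∀ (d : Bool) (x y : T0), inP d x → y = V1e * x * V1e⁻¹ →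
    y = (if x = C1 * tw d then C1' * tw d else if x = C1' * tw d then C1 * tw d else x) := by
  decide +kernel

theorem adjust : ∀ (d : Bool) (β : T0), inB β → ∃ e : Bool,
    (V1e * β * (bif e then C1 * tw d else 1)).s = false ∧
    ((V1e * β * (bif e then C1 * tw d else 1)).a = DihedralGroup.sr 0 ∨
      (V1e * β * (bif e then C1 * tw d else 1)).a = DihedralGroup.sr 2) ∧
    inU (V1e * β * (bif e then C1 * tw d else 1)).b := by decide +kernel

theorem small_cases : ∀ x : T0, x.s = false →
    (x.a = DihedralGroup.sr 0 ∨ x.a = DihedralGroup.sr 2) → inU x.b →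
    x = V1e ∨ x = V1e * Z1 ∨ (V2e * x * V2e⁻¹ = x * Z2) ∨
      x = ⟨DihedralGroup.sr 0, DihedralGroup.r 2, false⟩ ∨
      x = ⟨DihedralGroup.r 1, 1, false⟩ * ⟨DihedralGroup.sr 0, DihedralGroup.r 2, false⟩ *
        ⟨DihedralGroup.r 1, 1, false⟩⁻¹ := by decide +kernel

theorem elem_identities : C1 * C1' = Z1 ∧ (∀ d : Bool, C1 * tw d * (C1' * tw d) = Z1) ∧
    V2e * V2e = 1 ∧ V1e * V1e = 1 ∧ Z1 * ZZ = Z2 := by decide +kernel

end Cfsg.Agent.S4WreathLocal
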