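import Mathlib.GroupTheory.SpecificGroups.Dihedral
import Mathlib.GroupTheory.Perm.Fin
import Mathlib.Tactic.DeriveFintype
import Mathlib.Tactic.Group

/-!
# Computations in `D₈ ≀ 2` and `S₄ ≀ 2`

`Wr K` is `K ≀ Z₂`. A Sylow 2-subgroup of `S₄ ≀ Z₂` is `Wr D₈`; `toW` is the embedding, normalised so
that `{1, r 2, sr 0, sr 2}` goes to the normal four-group of `S₄`.
-/

set_option autoImplicit false
set_option linter.style.maxHeartbeats false

namespace Cfsg.Agent.S4WreathLocal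

/-- `K ≀ Z₂`. -/
@[ext] structure Wr (K : Type*) where
  a : K
  b : K
  s : Bool
  deriving Fintype

namespace Wr

instance instDecEq {K : Type*} [DecidableEq K] : DecidableEq (Wr K) := fun x y =>
  decidable_of_iff (x.a = y.a ∧ x.b = y.b ∧ x.s = y.s) Wr.ext_iff.symm

variable {K L : Type*} [Group K] [Group L]

instance : Mul (Wr K) :=
  ⟨fun x y => bif x.s then ⟨x.a * y.b, x.b * y.a, !y.s⟩ else ⟨x.a * y.a, x.b * y.b, y.s⟩⟩

instance : One (Wr K) := ⟨⟨1, 1, false⟩⟩

instance : Inv (Wr K) :=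
  ⟨fun x => bif x.s then ⟨x.b⁻¹, x.a⁻¹, true⟩ else ⟨x.a⁻¹, x.b⁻¹, false⟩⟩

theorem mul_def (x y : Wr K) : x * y =
    bif x.s then ⟨x.a * y.b, x.b * y.a, !y.s⟩ else ⟨x.a * y.a, x.b * y.b, y.s⟩ := rfl

theorem one_def : (1 : Wr K) = ⟨1, 1, false⟩ := rfl

theorem inv_def (x : Wr K) : x⁻¹ =
    bif x.s then ⟨x.b⁻¹, x.a⁻¹, true⟩ else ⟨x.a⁻¹, x.b⁻¹, false⟩ := rfl

instance instGroup : Group (Wr K) where
  mul_assoc := by
    rintro ⟨a, b, s⟩ ⟨a', b', s'⟩ ⟨a'', b'', s''⟩
    cases s <;> cases s' <;> simp [mul_def, mul_assoc]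
  one_mul := by rintro ⟨a, b, s⟩; simp [mul_def, one_def]
  mul_one := by rintro ⟨a, b, s⟩; cases s <;> simp [mul_def, one_def]
  inv_mul_cancel := by rintro ⟨a, b, s⟩; cases s <;> simp [mul_def, one_def, inv_def]

/-- Functoriality. -/
def map (f : K →* L) : Wr K →* Wr L where
  toFun x := ⟨f x.a, f x.b, x.s⟩
  map_one' := by simp [one_def]
  map_mul' := by rintro ⟨a, b, s⟩ ⟨a', b', s'⟩; cases s <;> simp [mul_def]

theorem map_injective {f : K →* L} (hf : Function.Injective f) : Function.Injective (map f) := by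
  rintro ⟨a, b, s⟩ ⟨a', b', s'⟩ h
  simp only [map, MonoidHom.coe_mk, OneHom.coe_mk, Wr.mk.injEq] at h
  rw [hf h.1, hf h.2.1, h.2.2]

end Wr

/-- `D₈`. -/
abbrev D := DihedralGroup 4

/-- The Sylow 2-subgroup `D₈ ≀ 2`. -/
abbrev T0 := Wr D

/-- `S₄ ≀ 2`. -/
abbrev W0 := Wr (Equiv.Perm (Fin 4))

/-- The values of the embedding `D₈ → S₄`. -/
def phiFun : D → Equiv.Perm (Fin 4)
  | .r i => finRotate 4 ^ i.val
  | .sr i => Equiv.swap 0 1 * Equiv.swap 2 3 * finRotate 4 ^ i.val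

theorem phiFun_mul : ∀ x y : D, phiFun (x * y) = phiFun x * phiFun y := by decide +kernel

/-- The embedding `D₈ → S₄`. -/
def phi : D →* Equiv.Perm (Fin 4) := MonoidHom.mk' phiFun phiFun_mul

theorem phi_injective : Function.Injective phi := by
  have h : ∀ x y : D, phiFun x = phiFun y → x = y := by decide +kernel
  exact fun x y e => h x y e

/-- The embedding `D₈ ≀ 2 → S₄ ≀ 2`. -/
def toW : T0 →* W0 := Wr.map phi

theorem toW_injective : Function.Injective toW := Wr.map_injective phi_injective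

/-- The centre of `D₈`. -/
def inC (x : D) : Bool := x == 1 || x == DihedralGroup.r 2
/-- The four-group going to the normal four-group of `S₄`. -/
def inV (x : D) : Bool := inC x || x == DihedralGroup.sr 0 || x == DihedralGroup.sr 2
/-- The other four-group. -/
def inU (x : D) : Bool := inC x || x == DihedralGroup.sr 1 || x == DihedralGroup.sr 3

/-- `V × V`. -/
def inA (x : T0) : Bool := !x.s && inV x.a && inV x.b
/-- `U × U`. -/
def inB (x : T0) : Bool := !x.s && inU x.a && inU x.b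
/-- `D₈ × D₈`. -/
def inJ (x : T0) : Bool := !x.s
/-- The centre of `D₈ × D₈`. -/
def inZ2 (x : T0) : Bool := !x.s && inC x.a && inC x.b
/-- The even part of `U × U`. -/
def inW (x : T0) : Bool := inB x && (inC x.a == inC x.b)
/-- `(U × U) : 2²`. -/
def inE (x : T0) : Bool := inU x.a == inU x.b
/-- The central product of two dihedral groups. -/
def inF (x : T0) : Bool := inC (x.a * x.b⁻¹)

/-- Involution of the class of `(z, 1)`. -/
def isA (x : T0) : Bool := inA x && (x.a == 1) != (x.b == 1)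
/-- Involution of the class of `(z, z)`. -/
def isZ (x : T0) : Bool := inA x && x.a != 1 && x.b != 1
/-- Class of `(sr 1, 1)`. -/
def isC (x : T0) : Bool := !x.s && ((inU x.a && !inC x.a && x.b == 1) || (inU x.b && !inC x.b && x.a == 1))
/-- Class of `(sr 1, z)`. -/
def isD (x : T0) : Bool := !x.s &&
  ((inU x.a && !inC x.a && inV x.b && x.b != 1) || (inU x.b && !inC x.b && inV x.a && x.a != 1))
/-- Class of `(sr 1, sr 1)`. -/
def isE (x : T0) : Bool := !x.s && inU x.a && !inC x.a && inU x.b && !inC x.b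
/-- Involutions interchanging the factors. -/
def isS (x : T0) : Bool := x.s && x.a * x.b == 1

/-- The commutator. -/
def cm (x y : T0) : T0 := x * y * x⁻¹ * y⁻¹

/-- `(z, 1)`. -/
def Z1 : T0 := ⟨DihedralGroup.r 2, 1, false⟩
/-- `(1, z)`. -/
def Z2 : T0 := ⟨1, DihedralGroup.r 2, false⟩
/-- `(z, z)`. -/
def ZZ : T0 := ⟨DihedralGroup.r 2, DihedralGroup.r 2, false⟩
/-- `(sr 0, 1)`. -/
def V1e : T0 := ⟨DihedralGroup.sr 0, 1, false⟩
/-- `(1, sr 0)`. -/
def V2e : T0 := ⟨1, DihedralGroup.sr 0, false⟩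
/-- `(sr 1, 1)`. -/
def C1 : T0 := ⟨DihedralGroup.sr 1, 1, false⟩
/-- `(sr 3, 1)`. -/
def C1' : T0 := ⟨DihedralGroup.sr 3, 1, false⟩
/-- `(1, sr 1)`. -/
def C2 : T0 := ⟨1, DihedralGroup.sr 1, false⟩
/-- `(1, sr 3)`. -/
def C2' : T0 := ⟨1, DihedralGroup.sr 3, false⟩
/-- `(sr 1, sr 1)`. -/
def E0 : T0 := ⟨DihedralGroup.sr 1, DihedralGroup.sr 1, false⟩
/-- `(sr 0, sr 0)`. -/
def VV : T0 := ⟨DihedralGroup.sr 0, DihedralGroup.sr 0, false⟩
/-- The interchange of the factors. -/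
def SW : T0 := ⟨1, 1, true⟩

theorem inv_classes : ∀ x : T0, x * x = 1 → x = 1 ∨ isA x ∨ isZ x ∨ isC x ∨ isD x ∨ isE x ∨ isS x := by
  decide +kernel

theorem card_T0 : Fintype.card T0 = 128 := by decide +kernel

theorem inA_mul : ∀ x y : T0, inA x → inA y → inA (x * y) := by decide +kernel

theorem inE_mul : ∀ x y : T0, inE x → inE y → inE (x * y) := by decide +kernel

end Cfsg.Agent.S4WreathLocal
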