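import Cfsg.Agent.Lib.S4WreathLocal.Weak
import Mathlib.GroupTheory.Perm.Sign

/-!
# The normaliser of `U × U`
-/

set_option autoImplicit false
set_option linter.style.haveILetI false
set_option linter.unusedSectionVars false
set_option linter.style.maxHeartbeats false

namespace Cfsg.Agent.S4WreathLocal

open Subgroup Cfsg.Agent

/-- A subgroup of index 2 in `D₈ ≀ 2`. -/
def subQ0 : Subgroup T0 := mkSub inQ0 (by decide +kernel) (by decide +kernel) (by decide +kernel)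

theorem cycle_facts {α : Type*} [DecidableEq α] (a b c : α) (hab : a ≠ b) (hac : a ≠ c) (hbc : b ≠ c) :
    (Equiv.swap a b * Equiv.swap b c * Equiv.swap a b * Equiv.swap b c) c = b ∧
    (Equiv.swap a b * Equiv.swap b c * Equiv.swap a b * Equiv.swap b c) ^ 3 = 1 ∧
    (∀ p, p ≠ a → p ≠ b → p ≠ c →
      (Equiv.swap a b * Equiv.swap b c * Equiv.swap a b * Equiv.swap b c) p = p) := by
  have hab' := hab.symm
  have hac' := hac.symm
  have hbc' := hbc.symm
  refine ⟨?_, Equiv.ext fun x => ?_, fun p pa pb pc => ?_⟩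
  · simp [Equiv.swap_apply_def, *]
  · simp only [pow_succ, pow_zero, one_mul, Equiv.Perm.mul_apply, Equiv.Perm.one_apply]
    by_cases ha : x = a
    · simp [Equiv.swap_apply_def, *]
    by_cases hb : x = b
    · simp [Equiv.swap_apply_def, *]
    by_cases hc : x = c <;> simp [Equiv.swap_apply_def, *]
  · simp [Equiv.swap_apply_def, *]

theorem swap_conj_fix {α : Type*} [DecidableEq α] (σ : Equiv.Perm α) (p q : α) (hp : σ p = p) (hq : σ q = q) :
    (Equiv.swap p q)⁻¹ * (σ * Equiv.swap p q * σ⁻¹) = 1 := by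
  rw [show σ * Equiv.swap p q * σ⁻¹ = Equiv.swap (σ p) (σ q) by
    rw [Equiv.swap_apply_apply], hp, hq, inv_mul_cancel]

namespace Cfg

variable {G : Type*} [Group G] [Finite G] (S : Cfg G) (hO : Cfsg.pResidual 2 G = ⊤)

/-- The normaliser of `U × U`. -/
abbrev NB : Subgroup G := normalizer (subB.map S.τ : Set G)

theorem T_le_NB : (S.T : Subgroup G) ≤ S.NB := S.T_le_normalizer subB_normal

theorem conj_NB {n : G} (hn : n ∈ S.NB) {x : T0} (hx : inB x) :
    ∃ y : T0, inB y ∧ n * S.τ x * n⁻¹ = S.τ y := S.exists_pull (H := subB) hn x hx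

include hO in
theorem exists_moving : ∃ n ∈ S.NB, n * S.τ ZZ * n⁻¹ ≠ S.τ ZZ := by
  by_contra hfix
  push_neg at hfix
  have hNC : S.NB ≤ S.C := fun n hn => S.mem_C.2 (mul_inv_eq_iff_eq_mul.1 (hfix n hn))
  obtain ⟨hc64, hC1, hC1sq⟩ := card_inQ0
  have hle : subQ0.map S.τ ≤ (S.T : Subgroup G) := by rintro _ ⟨x, -, rfl⟩; exact S.τ_mem x
  have hidx : (subQ0.map S.τ).relIndex (S.T : Subgroup G) = 2 := by
    have h1 := card_mul_index ((subQ0.map S.τ).subgroupOf (S.T : Subgroup G))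
    rw [Nat.card_congr (subgroupOfEquivOfLe hle).toEquiv, S.card_map, S.card_T,
      show Nat.card subQ0 = 64 by
        rw [← hc64, ← Nat.card_eq_fintype_card]
        exact Nat.card_congr (Equiv.subtypeEquivRight fun _ => Iff.rfl)] at h1
    show ((subQ0.map S.τ).subgroupOf (S.T : Subgroup G)).index = 2
    omega
  obtain ⟨g, y, hy, hgy⟩ := Transfer.exists_conj_mem_of_pResidual_eq_top S.T _ hle hidx hO (S.τ C1)
    (by rw [sq, ← map_mul, hC1sq, map_one]) (S.τ_mem C1)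
  have hy2 : y * y = 1 := S.τ_inj (by rw [map_mul, hgy, conj_mul, ← map_mul, hC1sq, map_one]; group)
  have hC1y : IsConj (S.τ C1) (S.τ y) := isConj_iff.2 ⟨g, hgy.symm⟩
  have hfus : ∀ w : T0, inB w → IsConj (S.τ C1) (S.τ w) → ∃ n ∈ S.C, n * S.τ w * n⁻¹ = S.τ C1 := by
    intro w hw h
    obtain ⟨k, hk⟩ := isConj_iff.1 h.symm
    obtain ⟨n, hn, e⟩ := S.fusion_B hO hw (show inB C1 by rfl) hk
    exact ⟨n, hNC hn, e⟩
  have hZ1 : ¬ IsConj (S.τ C1) (S.τ Z1) := fun h => by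
    obtain ⟨n, hn, e⟩ := hfus Z1 (by rfl) h
    exact absurd (Orb.inW S hO ⟨n, hn, e⟩) (by decide)
  have hZZ : ¬ IsConj (S.τ C1) (S.τ ZZ) := fun h => by
    obtain ⟨n, hn, e⟩ := hfus ZZ (by rfl) h
    rw [S.C_conj_ZZ hn] at e
    exact absurd (S.τ_inj e) (by decide)
  rcases inQ0_inv y hy hy2 with rfl | h | h | h | h
  · rw [map_one] at hgy
    exact S.τ_ne_one (show C1 ≠ 1 by decide) (conj_eq_one_iff.1 hgy.symm)
  · exact hZ1 (hC1y.trans (S.conj_A h).symm)
  · exact hZZ (hC1y.trans (S.conj_Z h).symm)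
  · exact hZ1 (hC1y.trans ((S.conj_E_Z1 hO).trans (S.conj_E h)).symm)
  · exact hZZ (hC1y.trans ((S.conj_S h).symm.trans (S.conj_SW_ZZ hO)))

/-- The orbit of the central involution under `N(U × U)`. -/
def OrbN (x : T0) : Prop := ∃ n ∈ S.NB, n * S.τ ZZ * n⁻¹ = S.τ x

theorem OrbN.conj {x y : T0} (h : S.OrbN x) {n : G} (hn : n ∈ S.NB)
    (e : n * S.τ x * n⁻¹ = S.τ y) : S.OrbN y := by
  obtain ⟨d, hd, e'⟩ := h
  exact ⟨n * d, mul_mem hn hd, by rw [← e, ← e']; group⟩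

theorem OrbN.smul {x : T0} (h : S.OrbN x) (t : T0) : S.OrbN (t * x * t⁻¹) :=
  h.conj S (S.T_le_NB (S.τ_mem t)) (by simp)

include hO in
theorem exists_orbitN : ∃ d : Bool, ∀ x : T0, S.OrbN x ↔ inP d x := by
  have hz : S.OrbN ZZ := ⟨1, one_mem _, by simp⟩
  have hB : ∀ x, S.OrbN x → inB x := fun x ⟨n, hn, e⟩ => by
    obtain ⟨y, hy, e'⟩ := S.conj_NB hn (x := ZZ) (by rfl)
    rw [← S.τ_inj (e'.symm.trans e)]; exact hy
  have hconj : ∀ x, S.OrbN x → IsConj (S.τ ZZ) (S.τ x) := fun x ⟨n, _, e⟩ => isConj_iff.2 ⟨n, e⟩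
  have hW : ∀ x, S.OrbN x → inW x → x = ZZ := by
    intro x hx hxW
    have := inW_elems x hxW
    simp only [Bool.or_eq_true, inZ, beq_iff_eq] at this
    rcases this with (((h | h) | h) | h) | h
    · obtain ⟨n, -, e⟩ := hx
      rw [h, map_one] at e
      exact absurd (conj_eq_one_iff.1 e) (S.τ_ne_one (by decide))
    · exact h
    · exact absurd (h ▸ hconj x hx).symm S.not_conj_Z1_ZZ
    · refine absurd ((S.conj_A (x := x) (by rw [h]; rfl)).trans (hconj x hx).symm) S.not_conj_Z1_ZZ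
    · exact absurd (((S.conj_E_Z1 hO).trans (S.conj_E h)).trans (hconj x hx).symm) S.not_conj_Z1_ZZ
  have hnot : ¬ ((∃ x, S.OrbN x ∧ isC x) ∧ (∃ x, S.OrbN x ∧ isD x)) := by
    rintro ⟨⟨c, hc, hcC⟩, ⟨e, he, heD⟩⟩
    have hall : ∀ y : T0, inB y → ¬ inW y → S.OrbN y := by
      intro y hy hyW
      rcases Bool.or_eq_true_iff.1 (C_or_D y hy (by simpa using hyW)) with h | h
      · obtain ⟨t1, rfl⟩ := class_C c hcC
        obtain ⟨t2, rfl⟩ := class_C y h
        have := OrbN.smul S hc (t2 * t1⁻¹)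
        rwa [show t2 * t1⁻¹ * (t1 * C1 * t1⁻¹) * (t2 * t1⁻¹)⁻¹ = t2 * C1 * t2⁻¹ by group] at this
      · obtain ⟨t, rfl⟩ := class_D_inB e (hB e he) heD y hy h
        exact OrbN.smul S he t
    obtain ⟨hprod, hE', hC1W, hWmul, -⟩ := W_from_E
    obtain ⟨n, hn, en⟩ := hall C1 (by rfl) (by decide)
    have hmove : ∀ y : T0, inW y → y ≠ ZZ → ∃ y' : T0, inW y' ∧ n * S.τ y * n⁻¹ = S.τ y' := by
      intro y hy hyz
      have hyB : inB y := (show ∀ y : T0, inW y → inB y by decide +kernel) y hy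
      obtain ⟨y', hy', e'⟩ := S.conj_NB hn hyB
      refine ⟨y', ?_, e'⟩
      by_contra hW'
      exact hyz (hW y ((hall y' hy' hW').conj S (inv_mem hn) (by rw [← e']; group)) hy)
    obtain ⟨a, ha, ea⟩ := hmove Z1 (by rfl) (by decide)
    obtain ⟨b, hb, eb⟩ := hmove Z2 (by rfl) (by decide)
    have : C1 = a * b := S.τ_inj (by
      rw [← en, show ZZ = Z1 * Z2 by decide, map_mul, map_mul, ← conj_mul, ea, eb])
    rw [this] at hC1W
    simp [hWmul a b ha hb] at hC1W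
  obtain ⟨n0, hn0, hmove⟩ := S.exists_moving hO
  obtain ⟨x0, hx0B, e0⟩ := S.conj_NB hn0 (x := ZZ) (by rfl)
  have hx0 : S.OrbN x0 := ⟨n0, hn0, e0⟩
  have hx0W : ¬ inW x0 := fun h => hmove (by rw [e0, hW x0 hx0 h])
  refine ⟨isD x0, fun x => ⟨fun hx => ?_, fun hx => ?_⟩⟩
  · simp only [inP, Bool.or_eq_true, beq_iff_eq, Bool.and_eq_true, Bool.not_eq_true']
    by_cases hxW : inW x
    · exact Or.inl (hW x hx hxW)
    refine Or.inr ⟨⟨hB x hx, by simpa using hxW⟩, ?_⟩
    have h1 := Bool.or_eq_true_iff.1 (C_or_D x (hB x hx) (by simpa using hxW))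
    have h0 := Bool.or_eq_true_iff.1 (C_or_D x0 hx0B (by simpa using hx0W))
    cases hd : isD x0
    · rw [cond_false]
      rcases h1 with h | h
      · exact h
      · exact absurd ⟨⟨x0, hx0, h0.resolve_right (by simp [hd])⟩, ⟨x, hx, h⟩⟩ hnot
    · rw [cond_true]
      rcases h1 with h | h
      · exact absurd ⟨⟨x, hx, h⟩, ⟨x0, hx0, hd⟩⟩ hnot
      · exact h
  · simp only [inP, Bool.or_eq_true, beq_iff_eq, Bool.and_eq_true, Bool.not_eq_true'] at hx
    rcases hx with rfl | ⟨⟨hxB, hxW⟩, hxd⟩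
    · exact hz
    cases hd : isD x0
    · rw [hd, cond_false] at hxd
      have h0 := (Bool.or_eq_true_iff.1 (C_or_D x0 hx0B (by simpa using hx0W))).resolve_right (by simp [hd])
      obtain ⟨t1, rfl⟩ := class_C x0 h0
      obtain ⟨t2, rfl⟩ := class_C x hxd
      have := OrbN.smul S hx0 (t2 * t1⁻¹)
      rwa [show t2 * t1⁻¹ * (t1 * C1 * t1⁻¹) * (t2 * t1⁻¹)⁻¹ = t2 * C1 * t2⁻¹ by group] at this
    · rw [hd, cond_true] at hxd
      obtain ⟨t, rfl⟩ := class_D_inB x0 hx0B hd x hxB hxd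
      exact OrbN.smul S hx0 t

include hO in
theorem cent_B_le {u : G} (h : ∀ x : T0, inB x → Commute u (S.τ x)) : u ∈ subB.map S.τ := by
  obtain ⟨j, -, rfl⟩ := S.cent_Z1_in_C hO (S.mem_C.2 (h ZZ (by rfl))) (h Z1 (by rfl))
  exact ⟨j, cent_inB j fun x hx => S.τ_commute.1 (h x hx), rfl⟩

include hO in
theorem card_NB {d : Bool} (hd : ∀ x : T0, S.OrbN x ↔ inP d x) : Nat.card S.NB = 1920 := by
  haveI := Fintype.ofFinite G
  have himg : (fun c : G => c * S.τ ZZ * c⁻¹) '' (S.NB : Set G) = S.τ '' {y | inP d y = true} := by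
    ext g
    constructor
    · rintro ⟨c, hc, rfl⟩
      obtain ⟨y, -, hy⟩ := S.conj_NB hc (x := ZZ) (by rfl)
      exact ⟨y, (hd y).1 ⟨c, hc, hy⟩, hy.symm⟩
    · rintro ⟨y, hy, rfl⟩
      obtain ⟨c, hc, e⟩ := (hd y).2 hy
      exact ⟨c, hc, e⟩
  have hinf : S.NB ⊓ centralizer ({S.τ ZZ} : Set G) = S.C :=
    inf_eq_right.2 (S.C_le_normalizer_B hO)
  rw [SmallCent.card_eq_orbit_mul S.NB (S.τ ZZ), himg, Set.ncard_image_of_injective _ S.τ_inj, hinf, S.card_C hO,
    ← Nat.card_coe_set_eq, Nat.card_eq_fintype_card,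
    show Fintype.card {y | inP d y = true} = 5 from (Fintype.card_congr (Equiv.refl _)).trans (inP_card d)]

set_option maxHeartbeats 1000000 in
include hO in
/-- An element of order three in `C(z₁, (v, 1))`, inverted by `(1, v)` and moving the central involution. -/
theorem exists_g : ∃ (g : G) (d : Bool), g ^ 3 = 1 ∧ g ∈ S.NB ∧ Commute g (S.τ Z1) ∧ Commute g (S.τ V1e) ∧
    S.τ V2e * g * S.τ V2e = g⁻¹ ∧ Commute g (S.τ (C1 * tw d)) ∧
    g * S.τ ZZ * g⁻¹ = S.τ (C2' * tw d) ∧ (d = false → IsConj (S.τ ZZ) (S.τ C1)) := by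
  classical
  obtain ⟨d, hd⟩ := S.exists_orbitN hO
  obtain ⟨hPz, hP1, hP1', hP2, hP2'⟩ := inP_mem d
  -- the action on the five points
  have hact : ∀ (n : S.NB) (x : {x : T0 // inP d x}), ∃ y : {x : T0 // inP d x},
      (n : G) * S.τ x * (n : G)⁻¹ = S.τ y := by
    intro n x
    obtain ⟨y, -, e⟩ := S.conj_NB n.2 (inP_inB d x x.2)
    exact ⟨⟨y, (hd y).1 (((hd x).2 x.2).conj S n.2 e)⟩, e⟩
  choose f hf using hact
  have hinj : ∀ n, Function.Injective (f n) := fun n a b h => Subtype.ext (S.τ_inj (mul_left_cancel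
    (mul_right_cancel ((hf n a).trans ((congrArg (fun y : {x : T0 // inP d x} => S.τ y.1) h).trans
      (hf n b).symm)))))
  let φ : S.NB →* Equiv.Perm {x : T0 // inP d x} := MonoidHom.mk'
    (fun n => Equiv.ofBijective (f n) (Finite.injective_iff_bijective.1 (hinj n))) (fun m n => Equiv.ext fun x => by
      refine Subtype.ext (S.τ_inj ?_)
      show S.τ (f (m * n) x) = S.τ (f m (f n x))
      rw [← hf, ← hf, ← hf, Subgroup.coe_mul]; group)
  have hφ : ∀ (n : S.NB) (x : {x : T0 // inP d x}), (n : G) * S.τ x * (n : G)⁻¹ = S.τ (φ n x) := hf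
  have hker : φ.ker = (subB.map S.τ).subgroupOf S.NB := by
    ext n
    rw [MonoidHom.mem_ker, mem_subgroupOf]
    constructor
    · intro h
      refine S.cent_B_le hO fun x hx => ?_
      have hb : ∀ (b : Bool) (y : T0), inP d y → Commute (n : G) (S.τ (bif b then y else 1)) := by
        intro b y hy; cases b
        · rw [cond_false, map_one]; exact Commute.one_right _
        · rw [cond_true]
          refine mul_inv_eq_iff_eq_mul.1 ?_
          rw [hφ n ⟨y, hy⟩, h]; rfl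
      obtain ⟨e, i, j, k, l, rfl⟩ := inP_gens d x hx
      simp only [map_mul]
      exact ((((hb e _ hPz).mul_right (hb i _ hP1)).mul_right (hb j _ hP1')).mul_right (hb k _ hP2)).mul_right
        (hb l _ hP2')
    · rintro ⟨b, hb, e⟩
      refine Equiv.ext fun x => Subtype.ext (S.τ_inj ?_)
      rw [← hφ, ← e, ← map_inv, ← map_mul, ← map_mul]
      exact congrArg S.τ ((show ∀ b x : T0, inB b → inB x → b * x * b⁻¹ = x by decide +kernel) b x hb
        (inP_inB d x x.2))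
  have hsurj : Function.Surjective φ := by
    rw [← MonoidHom.range_eq_top]
    refine eq_top_of_card_eq _ ?_
    have h1 := card_mul_index φ.ker
    rw [index_ker, hker, Nat.card_congr (subgroupOfEquivOfLe (show subB.map S.τ ≤ S.NB from le_normalizer)).toEquiv,
      S.card_subB, S.card_NB hO hd] at h1
    rw [Nat.card_perm, show Nat.card {x : T0 // inP d x} = 5 by rw [Nat.card_eq_fintype_card, inP_card d],
      show Nat.factorial 5 = 120 from rfl]
    omega
  let z : {x : T0 // inP d x} := ⟨ZZ, hPz⟩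
  let p1 : {x : T0 // inP d x} := ⟨C1 * tw d, hP1⟩
  let p1' : {x : T0 // inP d x} := ⟨C1' * tw d, hP1'⟩
  let p2 : {x : T0 // inP d x} := ⟨C2 * tw d, hP2⟩
  let p2' : {x : T0 // inP d x} := ⟨C2' * tw d, hP2'⟩
  obtain ⟨g0, hg0⟩ := hsurj (Equiv.swap p2' z)
  let t : S.NB := ⟨S.τ V2e, S.T_le_NB (S.τ_mem _)⟩
  let v : S.NB := ⟨S.τ V1e, S.T_le_NB (S.τ_mem _)⟩
  have hswapT : ∀ (w : T0) (a b : {x : T0 // inP d x}) (hw : S.τ w ∈ S.NB),
      (∀ x y : T0, inP d x → y = w * x * w⁻¹ → y = if x = a.1 then b.1 else if x = b.1 then a.1 else x) →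
      φ ⟨S.τ w, hw⟩ = Equiv.swap a b := by
    intro w a b hw h
    refine Equiv.ext fun x => Subtype.ext ?_
    have e := hφ ⟨S.τ w, hw⟩ x
    change S.τ w * S.τ x * (S.τ w)⁻¹ = _ at e
    rw [← map_inv, ← map_mul, ← map_mul] at e
    rw [h _ _ x.2 (S.τ_inj e).symm, Equiv.swap_apply_def]
    simp only [← Subtype.ext_iff]
    split_ifs <;> rfl
  have hφt : φ t = Equiv.swap p2 p2' := hswapT V2e p2 p2' _ (V2e_act d)
  have hφv : φ v = Equiv.swap p1 p1' := hswapT V1e p1 p1' _ (V1e_act d)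
  obtain ⟨-, hprodp, htt, hvv, hz12⟩ := elem_identities
  have htsq : t * t = 1 := Subtype.ext (by
    show S.τ V2e * S.τ V2e = 1
    rw [← map_mul, htt, map_one])
  have hvsq : v * v = 1 := Subtype.ext (by
    show S.τ V1e * S.τ V1e = 1
    rw [← map_mul, hvv, map_one])
  have htinv : t⁻¹ = t := inv_eq_of_mul_eq_one_right htsq
  have hvinv : v⁻¹ = v := inv_eq_of_mul_eq_one_right hvsq
  set k : S.NB := t * g0 * t * g0⁻¹ with hk
  have hkinv : t * k * t = k⁻¹ := by
    rw [hk, show t * (t * g0 * t * g0⁻¹) * t = (t * t) * (g0 * t * g0⁻¹ * t) by group, htsq, one_mul,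
      show (t * g0 * t * g0⁻¹)⁻¹ = g0 * t⁻¹ * g0⁻¹ * t⁻¹ by group, htinv]
  set σ : Equiv.Perm {x : T0 // inP d x} :=
    Equiv.swap p2 p2' * Equiv.swap p2' z * Equiv.swap p2 p2' * Equiv.swap p2' z with hσ
  have hφk : φ k = σ := by
    rw [hk, map_mul, map_mul, map_mul, map_inv, hφt, hg0, Equiv.swap_inv]
  obtain ⟨h22', h2z, h2'z, h12, h12', h1z, h1'2, h1'2', h1'z⟩ :=
    (show ∀ d : Bool, C2 * tw d ≠ C2' * tw d ∧ C2 * tw d ≠ ZZ ∧ C2' * tw d ≠ ZZ ∧ C1 * tw d ≠ C2 * tw d ∧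
      C1 * tw d ≠ C2' * tw d ∧ C1 * tw d ≠ ZZ ∧ C1' * tw d ≠ C2 * tw d ∧ C1' * tw d ≠ C2' * tw d ∧
      C1' * tw d ≠ ZZ by decide +kernel) d
  have hne : ∀ {a b : {x : T0 // inP d x}}, a.1 ≠ b.1 → a ≠ b := fun h e => h (congrArg Subtype.val e)
  obtain ⟨hσz, hσ3, hσfix⟩ := cycle_facts p2 p2' z (hne h22') (hne h2z) (hne h2'z)
  rw [← hσ] at hσz hσ3 hσfix
  have hσ1 : σ p1 = p1 := hσfix p1 (hne h12) (hne h12') (hne h1z)
  have hσ1' : σ p1' = p1' := hσfix p1' (hne h1'2) (hne h1'2') (hne h1'z)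
  have hk6 : k ^ 6 = 1 := by
    have hmem : k ^ 3 ∈ φ.ker := by rw [MonoidHom.mem_ker, map_pow, hφk, hσ3]
    rw [hker, mem_subgroupOf] at hmem
    obtain ⟨b, hb, eb⟩ := hmem
    refine Subtype.ext ?_
    rw [show 6 = 3 * 2 from rfl, pow_mul, Subgroup.coe_pow, ← eb, sq, ← map_mul,
      (show ∀ b : T0, inB b → b * b = 1 by decide +kernel) b hb, map_one]
    rfl
  set g : S.NB := k ^ 4 with hg
  have hg3 : g ^ 3 = 1 := by rw [hg, ← pow_mul, show 4 * 3 = 6 * 2 from rfl, pow_mul, hk6, one_pow]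
  have hφg : φ g = σ := by
    rw [hg, map_pow, hφk, show 4 = 3 + 1 from rfl, pow_succ, hσ3, one_mul]
  have hgt : t * g * t = g⁻¹ := by
    rw [hg, ← inv_pow, ← hkinv]
    conv_rhs => rw [show t * k * t = t * k * t⁻¹ by rw [htinv], conj_pow]
    rw [htinv]
  have hfixp : ∀ p : {x : T0 // inP d x}, σ p = p → Commute (g : G) (S.τ p) := by
    intro p hp
    refine mul_inv_eq_iff_eq_mul.1 ?_
    rw [hφ g p, hφg, hp]
  have hgp1 := hfixp p1 hσ1
  have hgZ1 : Commute (g : G) (S.τ Z1) := by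
    rw [← hprodp d, map_mul]; exact hgp1.mul_right (hfixp p1' hσ1')
  have hgz : (g : G) * S.τ ZZ * (g : G)⁻¹ = S.τ (C2' * tw d) := by
    have := hφ g z
    rw [hφg, hσz] at this
    exact this
  -- averaging over the three-group
  have hbmem : v⁻¹ * (g * v * g⁻¹) ∈ φ.ker := by
    rw [MonoidHom.mem_ker, map_mul, map_mul, map_mul, map_inv, map_inv, hφg, hφv]
    exact swap_conj_fix σ p1 p1' hσ1 hσ1'
  set B' : Subgroup S.NB := (subB.map S.τ).subgroupOf S.NB with hB'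
  haveI hBn : B'.Normal := hker ▸ φ.normal_ker
  rw [hker] at hbmem
  set b := v⁻¹ * (g * v * g⁻¹) with hb
  have hBcomm : ∀ a ∈ B', ∀ c ∈ B', a * c = c * a ∧ a * a = 1 := by
    rintro a ⟨a', ha', ea⟩ c ⟨c', hc', ec⟩
    refine ⟨Subtype.ext ?_, Subtype.ext ?_⟩
    · show (a : G) * c = c * a
      change S.τ a' = (a : G) at ea
      change S.τ c' = (c : G) at ec
      rw [← ea, ← ec, ← map_mul, ← map_mul,
        (show ∀ a c : T0, inB a → inB c → a * c = c * a by decide +kernel) a' c' ha' hc']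
    · show (a : G) * a = 1
      change S.τ a' = (a : G) at ea
      rw [← ea, ← map_mul, (show ∀ a : T0, inB a → a * a = 1 by decide +kernel) a' ha', map_one]
  have hgv : g * v * g⁻¹ = v * b := by rw [hb]; group
  clear_value b
  have hgb : g * b * g⁻¹ ∈ B' := hBn.conj_mem b hbmem g
  have hggb : g * (g * b * g⁻¹) * g⁻¹ ∈ B' := hBn.conj_mem _ hgb g
  have hsum : b * (g * b * g⁻¹) * (g * (g * b * g⁻¹) * g⁻¹) = 1 := by
    have h3 : (g ^ 3) * v * (g ^ 3)⁻¹ = v * (b * (g * b * g⁻¹) * (g * (g * b * g⁻¹) * g⁻¹)) := by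
      have e : ∀ a, g * (v * a) * g⁻¹ = v * (b * (g * a * g⁻¹)) := fun a => by
        rw [← conj_mul, hgv, mul_assoc]
      rw [show (g ^ 3) * v * (g ^ 3)⁻¹ = g * (g * (g * v * g⁻¹) * g⁻¹) * g⁻¹ by
        simp only [pow_succ, pow_zero, one_mul, mul_inv_rev, mul_assoc], hgv, e, e]
      group
    rw [hg3, one_mul, inv_one, mul_one] at h3
    exact mul_eq_left.1 h3.symm
  set v' := v * (g * b * g⁻¹) with hv'
  have hgv' : g * v' * g⁻¹ = v' := by
    rw [hv', ← conj_mul, hgv, mul_assoc]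
    congr 1
    have hd2 := (hBcomm _ hgb _ hgb).2
    have hcd := (hBcomm _ hgb _ hggb).1
    generalize g * (g * b * g⁻¹) * g⁻¹ = c at hsum hcd ⊢
    generalize g * b * g⁻¹ = d at hsum hcd hd2 ⊢
    calc b * c = b * (c * d) * d := by rw [mul_assoc, mul_assoc c, hd2, mul_one]
      _ = (b * d * c) * d := by rw [← hcd, ← mul_assoc b]
      _ = d := by rw [hsum, one_mul]
  have hgv'' : Commute (g : G) (v' : G) :=
    mul_inv_eq_iff_eq_mul.1 (by simpa using congrArg (fun a : S.NB => (a : G)) hgv')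
  obtain ⟨β, hβ, eβ⟩ := hgb
  change S.τ β = ((g * b * g⁻¹ : S.NB) : G) at eβ
  have hv'τ : (v' : G) = S.τ (V1e * β) := by
    rw [map_mul, eβ, hv', Subgroup.coe_mul]
  obtain ⟨e, hxs, hxa, hxb⟩ := adjust d β hβ
  set x := V1e * β * (bif e then C1 * tw d else 1) with hx
  have hgx : Commute (g : G) (S.τ x) := by
    rw [hx, map_mul, ← hv'τ]
    refine hgv''.mul_right ?_
    cases e
    · rw [cond_false, map_one]; exact Commute.one_right _
    · exact hgp1
  have hgt' : S.τ V2e * (g : G) * S.τ V2e = (g : G)⁻¹ := by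
    simpa [t] using congrArg (fun a : S.NB => (a : G)) hgt
  have hgnz : ¬ Commute (g : G) (S.τ ZZ) := fun h => by
    have := hgz
    rw [h.eq, mul_assoc, mul_inv_cancel, mul_one] at this
    exact absurd (congrArg Subtype.val (show z = p2' from Subtype.ext (S.τ_inj this)))
      (fun e => h2'z e.symm)
  refine ⟨g, d, by simpa using congrArg (fun a : S.NB => (a : G)) hg3, g.2, hgZ1, ?_, hgt', hgp1, hgz,
    fun hd0 => ?_⟩
  · rcases small_cases x hxs hxa hxb with h | h | h | h | h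
    · rwa [h] at hgx
    · rw [h, map_mul] at hgx
      have := hgx.mul_right hgZ1.inv_right
      rwa [mul_inv_cancel_right] at this
    · exfalso
      have htx : Commute (g : G) (S.τ (V2e * x * V2e⁻¹)) := by
        have h2 := ((Commute.conj_iff (S.τ V2e)).2 hgx.inv_left)
        have hinv : (S.τ V2e)⁻¹ = S.τ V2e := by rw [← map_inv, show V2e⁻¹ = V2e by decide]
        rw [← map_inv, ← map_mul, ← map_mul] at h2
        rw [show S.τ V2e * (g : G)⁻¹ * S.τ V2e⁻¹ = g by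
          rw [map_inv, hinv, ← hgt']
          rw [show S.τ V2e * (S.τ V2e * (g : G) * S.τ V2e) * S.τ V2e =
            (S.τ V2e * S.τ V2e) * g * (S.τ V2e * S.τ V2e) by group, ← map_mul, htt, map_one, one_mul,
            mul_one]] at h2
        exact h2
      rw [h, map_mul] at htx
      have hz2 : Commute (g : G) (S.τ Z2) := by
        have := hgx.inv_right.mul_right htx
        rwa [inv_mul_cancel_left] at this
      refine hgnz ?_
      rw [show ZZ = Z1 * Z2 by decide, map_mul]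
      exact hgZ1.mul_right hz2
    all_goals exfalso
    all_goals refine hgnz ?_
    all_goals
      obtain ⟨n, hn1, hnz⟩ : ∃ n : G, n * S.τ V1e * n⁻¹ = S.τ Z1 ∧ n * S.τ ZZ * n⁻¹ = S.τ x := by
        first
        | exact ⟨S.ι ⟨tr, 1, false⟩, by
            rw [show S.τ V1e = S.ι (toW V1e) from rfl, show S.τ Z1 = S.ι (toW Z1) from rfl, ← map_inv, ← map_mul,
              ← map_mul]
            exact congrArg S.ι (by decide +kernel), by
            rw [h, show S.τ ZZ = S.ι (toW ZZ) from rfl, ← map_inv, ← map_mul, ← map_mul, conj_VZ]; rfl⟩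
        | exact ⟨S.τ ⟨DihedralGroup.r 1, 1, false⟩ * S.ι ⟨tr, 1, false⟩, by
            rw [show S.τ V1e = S.ι (toW V1e) from rfl, show S.τ Z1 = S.ι (toW Z1) from rfl,
              show S.τ ⟨DihedralGroup.r 1, 1, false⟩ = S.ι (toW ⟨DihedralGroup.r 1, 1, false⟩) from rfl,
              ← map_mul, ← map_inv, ← map_mul, ← map_mul]
            exact congrArg S.ι (by decide +kernel), by
            rw [h, show S.τ ZZ = S.ι (toW ZZ) from rfl,
              show S.τ ⟨DihedralGroup.r 1, 1, false⟩ = S.ι (toW ⟨DihedralGroup.r 1, 1, false⟩) from rfl,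
              ← map_mul, ← map_inv, ← map_mul, ← map_mul]
            show _ = S.ι (toW _)
            exact congrArg S.ι (by decide +kernel)⟩
      have h1 : n⁻¹ * (g : G) * n⁻¹⁻¹ ∈ S.C := S.mem_C.2 (by
        have := (Commute.conj_iff n⁻¹).2 hgx
        rwa [← hnz, show n⁻¹ * (n * S.τ ZZ * n⁻¹) * n⁻¹⁻¹ = S.τ ZZ by group] at this)
      have h2 : Commute (n⁻¹ * (g : G) * n⁻¹⁻¹) (S.τ V1e) := by
        have := (Commute.conj_iff n⁻¹).2 hgZ1
        rwa [← hn1, show n⁻¹ * (n * S.τ V1e * n⁻¹) * n⁻¹⁻¹ = S.τ V1e by group] at this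
      have hodd : Odd (orderOf (n⁻¹ * (g : G) * n⁻¹⁻¹)) := by
        refine Odd.of_dvd_nat (by decide : Odd 3) (orderOf_dvd_of_pow_eq_one ?_)
        rw [conj_pow, ← Subgroup.coe_pow, hg3]
        simp
      rw [conj_eq_one_iff.1 (S.cent_V1e_trivial hO h1 hodd h2)]
      exact Commute.one_left _
  · subst hd0
    obtain ⟨n, -, e⟩ := (hd (C1 * tw false)).2 hP1
    rw [show C1 * tw false = C1 by decide] at e
    exact isConj_iff.2 ⟨n, e⟩

end Cfg

end Cfsg.Agent.S4WreathLocal
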