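import Cfsg.Agent.Lib.S4WreathLocal.Setup

/-!
# Conjugacy inside `S₄ ≀ 2`
-/

set_option autoImplicit false

namespace Cfsg.Agent.S4WreathLocal

open Equiv in
/-- A transposition of `S₄` taking the central involution of `D₈` to another one of the four-group. -/
def tr : Equiv.Perm (Fin 4) := swap 1 2

open Equiv in
/-- A three-cycle in `S₄`. -/
def cyc : Equiv.Perm (Fin 4) := swap 1 2 * swap 2 3

/-- `(cyc, 1)`. -/
def Y3 : W0 := ⟨cyc, 1, false⟩
/-- `(1, cyc)`. -/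
def K3 : W0 := ⟨1, cyc, false⟩
/-- `(cyc, cyc)`. -/
def D3 : W0 := ⟨cyc, cyc, false⟩

theorem conj_V1e : ⟨tr, 1, false⟩ * toW Z1 * (⟨tr, 1, false⟩ : W0)⁻¹ = toW V1e := by decide +kernel

theorem conj_VV : ⟨tr, tr, false⟩ * toW ZZ * (⟨tr, tr, false⟩ : W0)⁻¹ = toW VV := by decide +kernel

theorem conj_VZ : ⟨tr, 1, false⟩ * toW ZZ * (⟨tr, 1, false⟩ : W0)⁻¹ =
    toW ⟨DihedralGroup.sr 0, DihedralGroup.r 2, false⟩ := by decide +kernel

theorem conj_D1 : ⟨1, tr, false⟩ * toW D0 * (⟨1, tr, false⟩ : W0)⁻¹ =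
    toW ⟨DihedralGroup.sr 1, DihedralGroup.sr 0, false⟩ := by decide +kernel

theorem D3_pow : D3 ^ 3 = 1 ∧ D3 ≠ 1 ∧ D3 * toW SW = toW SW * D3 := by decide +kernel

theorem perm_cent : ∀ a : Equiv.Perm (Fin 4),
    a * phi (DihedralGroup.r 2) = phi (DihedralGroup.r 2) * a → ∃ d : D, phi d = a := by
  decide +kernel

theorem toW_of_comm (w : W0) (h : w * toW ZZ = toW ZZ * w) : ∃ t : T0, toW t = w := by
  obtain ⟨a, b, s⟩ := w
  have h' : a * phi (DihedralGroup.r 2) = phi (DihedralGroup.r 2) * a ∧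
      b * phi (DihedralGroup.r 2) = phi (DihedralGroup.r 2) * b := by
    simp only [toW, Wr.map, MonoidHom.coe_mk, OneHom.coe_mk, ZZ, Wr.mul_def] at h
    cases s <;> simp only [cond_true, cond_false, Bool.not_false, Wr.mk.injEq] at h <;> exact ⟨h.1, h.2.1⟩
  obtain ⟨d, rfl⟩ := perm_cent a h'.1
  obtain ⟨e, rfl⟩ := perm_cent b h'.2
  exact ⟨⟨d, e, s⟩, rfl⟩

namespace Cfg

variable {G : Type*} [Group G] [Finite G] (S : Cfg G)

theorem conj_of_W {x y : T0} (w : W0) (h : w * toW x * w⁻¹ = toW y) : IsConj (S.τ x) (S.τ y) :=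
  isConj_iff.2 ⟨S.ι w, by
    show S.ι w * S.ι (toW x) * (S.ι w)⁻¹ = S.ι (toW y)
    rw [← map_inv, ← map_mul, ← map_mul, h]⟩

theorem conj_T (t x : T0) : IsConj (S.τ x) (S.τ (t * x * t⁻¹)) :=
  isConj_iff.2 ⟨S.τ t, by simp⟩

theorem conj_A {x : T0} (h : isA x) : IsConj (S.τ Z1) (S.τ x) := by
  obtain ⟨t, rfl | rfl⟩ := class_A x h
  · exact S.conj_T t Z1
  · exact (S.conj_of_W _ conj_V1e).trans (S.conj_T t V1e)

theorem conj_Z {x : T0} (h : isZ x) : IsConj (S.τ ZZ) (S.τ x) := by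
  obtain ⟨t, rfl | rfl | rfl⟩ := class_Z x h
  · exact S.conj_T t ZZ
  · exact (S.conj_of_W _ conj_VV).trans (S.conj_T t VV)
  · exact (S.conj_of_W _ conj_VZ).trans (S.conj_T t _)

theorem conj_C {x : T0} (h : isC x) : IsConj (S.τ C1) (S.τ x) := by
  obtain ⟨t, rfl⟩ := class_C x h; exact S.conj_T t C1

theorem conj_D {x : T0} (h : isD x) : IsConj (S.τ D0) (S.τ x) := by
  obtain ⟨t, rfl | rfl⟩ := class_D x h
  · exact S.conj_T t D0
  · exact (S.conj_of_W _ conj_D1).trans (S.conj_T t _)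

theorem conj_E {x : T0} (h : isE x) : IsConj (S.τ E0) (S.τ x) := by
  obtain ⟨t, rfl⟩ := class_E x h; exact S.conj_T t E0

theorem conj_S {x : T0} (h : isS x) : IsConj (S.τ SW) (S.τ x) := by
  obtain ⟨t, rfl⟩ := class_S x h; exact S.conj_T t SW

end Cfg

end Cfsg.Agent.S4WreathLocal
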