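import Cfsg.Agent.Lib.S4WreathLocal.Facts
import Cfsg.Agent.Lib.Balance.CharP
import Cfsg.Agent.Lib.Invol.Basic
import Cfsg.Prelude.Def_Quasithin

/-!
# A group with a maximal 2-local `S₄ ≀ 2` over a Sylow 2-subgroup: the setting
-/

set_option autoImplicit false
set_option linter.style.haveILetI false
set_option linter.unusedSectionVars false

namespace Cfsg.Agent.S4WreathLocal

open Subgroup Cfsg.Agent

/-- The data: `S₄ ≀ 2` embedded over a Sylow 2-subgroup as the full normaliser of `V × V`, in a group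
of even characteristic in which 2-locals have 3-rank at most two. -/
structure Cfg (G : Type*) [Group G] where
  /-- The embedding. -/
  ι : W0 →* G
  ι_inj : Function.Injective ι
  /-- The Sylow subgroup. -/
  T : Sylow 2 G
  hT : (T : Subgroup G) = (ι.comp toW).range
  hA : ∀ g : G, (∀ x : T0, inA x → ∃ y : T0, inA y ∧ g * ι (toW x) * g⁻¹ = ι (toW y)) → g ∈ ι.range
  charTwo : ∀ R : Subgroup G, IsPGroup 2 ↥R → R ≠ ⊥ →
    (T : Subgroup G) ≤ normalizer (R : Set G) → Balance.CharP' 2 (normalizer (R : Set G))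
  rank : ∀ R : Subgroup G, IsPGroup 2 ↥R → R ≠ ⊥ → ∀ A : Subgroup G, A ≤ normalizer (R : Set G) →
    IsMulCommutative A → (∀ a ∈ A, a ^ 3 = 1) → Nat.card A ≤ 9

/-- A subgroup of `T0` given by a closed predicate. -/
def mkSub (P : T0 → Bool) (h1 : P 1) (hm : ∀ x y, P x → P y → P (x * y))
    (hi : ∀ x, P x → P x⁻¹) : Subgroup T0 where
  carrier := {x | P x}
  one_mem' := h1
  mul_mem' := fun {x y} => hm x y
  inv_mem' := fun {x} => hi x

/-- `V × V`. -/
def subA : Subgroup T0 := mkSub inA (by decide +kernel) inA_mul (by decide +kernel)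
/-- `U × U`. -/
def subB : Subgroup T0 := mkSub inB (by decide +kernel) (by decide +kernel) (by decide +kernel)
/-- `D₈ × D₈`. -/
def subJ : Subgroup T0 := mkSub inJ (by decide +kernel) (by decide +kernel) (by decide +kernel)
/-- `(U × U) : 2²`. -/
def subE : Subgroup T0 := mkSub inE (by decide +kernel) inE_mul (by decide +kernel)
/-- The even part of `U × U`. -/
def subW : Subgroup T0 := mkSub inW (by decide +kernel) (by decide +kernel) (by decide +kernel)
/-- The centre of `D₈ × D₈`. -/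
def subZ2 : Subgroup T0 := mkSub inZ2 (by decide +kernel) (by decide +kernel) (by decide +kernel)

namespace Cfg

variable {G : Type*} [Group G] [Finite G] (S : Cfg G)

/-- The embedding of the Sylow 2-subgroup. -/
def τ : T0 →* G := S.ι.comp toW

theorem τ_inj : Function.Injective S.τ := S.ι_inj.comp toW_injective

theorem τ_ne_one {x : T0} (h : x ≠ 1) : S.τ x ≠ 1 := fun e => h (S.τ_inj (by rw [e, map_one]))

theorem mem_T {g : G} : g ∈ (S.T : Subgroup G) ↔ ∃ x : T0, S.τ x = g := by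
  rw [S.hT]; exact Iff.rfl

theorem τ_mem (x : T0) : S.τ x ∈ (S.T : Subgroup G) := S.mem_T.2 ⟨x, rfl⟩

theorem τ_commute {x y : T0} : Commute (S.τ x) (S.τ y) ↔ x * y = y * x :=
  ⟨fun h => S.τ_inj (by rw [map_mul, map_mul]; exact h.eq), fun h => by
    show S.τ x * S.τ y = S.τ y * S.τ x
    rw [← map_mul, ← map_mul, h]⟩

theorem τ_cm (x y : T0) : S.τ (cm x y) = S.τ x * S.τ y * (S.τ x)⁻¹ * (S.τ y)⁻¹ := by
  simp [cm]

theorem isPGroup_map (H : Subgroup T0) : IsPGroup 2 ↥(H.map S.τ) := by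
  refine S.T.2.to_le ?_
  rintro _ ⟨x, -, rfl⟩
  exact S.τ_mem x

theorem T_eq_range : (S.T : Subgroup G) = S.τ.range := S.hT

theorem card_T : Nat.card (S.T : Subgroup G) = 128 := by
  rw [S.T_eq_range, ← Nat.card_congr (MonoidHom.ofInjective S.τ_inj).toEquiv, Nat.card_eq_fintype_card,
    card_T0]

theorem card_map (H : Subgroup T0) : Nat.card (H.map S.τ) = Nat.card H :=
  (Nat.card_congr (H.equivMapOfInjective S.τ S.τ_inj).toEquiv).symm

/-- An element normalised. -/
theorem T_le_normalizer {H : Subgroup T0} (h : H.Normal) :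
    (S.T : Subgroup G) ≤ normalizer (H.map S.τ : Set G) := by
  rw [S.T_eq_range, le_normalizer_iff]
  rintro _ ⟨t, rfl⟩ _ ⟨x, hx, rfl⟩
  exact ⟨t * x * t⁻¹, h.conj_mem x hx t, by simp⟩

theorem le_T_of_isPGroup {P : Subgroup G} (hP : IsPGroup 2 ↥P) (h : (S.T : Subgroup G) ≤ P) :
    P = (S.T : Subgroup G) := S.T.3 hP h

theorem odd_of {u : G} (hu : Odd (orderOf u)) : (orderOf u).Coprime 2 :=
  Nat.coprime_two_right.2 hu

/-- An odd element centralising a normal self-centralising subgroup of `T` is trivial. -/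
theorem eq_one_of_cent {H : Subgroup T0} (hn : H.Normal) (hne : H ≠ ⊥)
    (hcent : ∀ t : T0, (∀ x ∈ H, t * x = x * t) → t ∈ H) {u : G} (hu : Odd (orderOf u))
    (hc : ∀ x ∈ H, Commute u (S.τ x)) : u = 1 := by
  haveI := Fact.mk Nat.prime_two
  set P := H.map S.τ with hP
  set N := normalizer (P : Set G) with hN
  have hTN : (S.T : Subgroup G) ≤ N := S.T_le_normalizer hn
  have hP0 : P ≠ ⊥ := fun e => hne ((map_eq_bot_iff_of_injective _ S.τ_inj).1 e)
  have hchar := S.charTwo P (S.isPGroup_map H) hP0 hTN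
  set O := Balance.core 2 N with hO
  have hPO : P ≤ O := Balance.le_core le_normalizer le_rfl (S.isPGroup_map H)
  have hOT : O ≤ (S.T : Subgroup G) := by
    have h := hTN.trans (Balance.le_normalizer_core (p := 2) N)
    exact le_sup_left.trans_eq
      (S.T.3 (IsPGroup.to_sup_of_normal_left' (Balance.isPGroup_core N) S.T.2 h) le_sup_right)
  have huP : ∀ r ∈ P, Commute u r := by
    rintro _ ⟨x, hx, rfl⟩
    exact hc x hx
  have huN : u ∈ N := centralizer_le_normalizer _ (fun r hr => ((huP r hr).eq).symm)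
  have hall := Balance.commute_of_commute_fixed (p := 2) (Balance.isPGroup_core N) (S.isPGroup_map H)
    (hPO.trans le_normalizer) (Balance.le_normalizer_core (p := 2) N huN) (odd_of hu) huP fun c hc hfix => by
      obtain ⟨t, rfl⟩ := S.mem_T.1 (hOT hc)
      exact huP _ ⟨t, hcent t fun x hx => (S.τ_commute.1 (hfix _ ⟨x, hx, rfl⟩)).symm, rfl⟩
  have : u ∈ O := hchar ⟨huN, fun c hc => (hall c hc).eq.symm⟩
  exact Balance.eq_one_of_mem_pGroup_of_coprime (Balance.isPGroup_core N) this (odd_of hu)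

theorem commute_of_series {P : Subgroup G} (hP : IsPGroup 2 ↥P) {u c : G} (hu : Odd (orderOf u))
    (hfix : ∀ r ∈ P, Commute u r) (h : u * c * u⁻¹ * c⁻¹ ∈ P) : Commute u c := by
  haveI := Fact.mk Nat.prime_two
  exact Balance.commute_of_translate' hP h (odd_of hu) (inv_mul_cancel_right (u * c * u⁻¹) c).symm
    (hfix _ h)

theorem commute_of_sq {u x : G} (hu : Odd (orderOf u)) (h : Commute (u * u) x) : Commute u x := by
  obtain ⟨m, hm⟩ := hu
  have : u = (u * u) ^ (m + 1) := by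
    rw [← pow_two, ← pow_mul, show 2 * (m + 1) = orderOf u + 1 by omega, pow_succ, pow_orderOf_eq_one,
      one_mul]
  rw [this]; exact h.pow_left _

theorem odd_sq {u : G} (hu : Odd (orderOf u)) : Odd (orderOf (u * u)) := by
  rw [← pow_two]
  exact Odd.of_dvd_nat hu (orderOf_pow_dvd 2)

/-- The conjugation map of `g ∈ N(τ(H))` read in `T0`. -/
theorem exists_pull {H : Subgroup T0} {g : G} (hg : g ∈ normalizer (H.map S.τ : Set G)) (x : T0)
    (hx : x ∈ H) : ∃ y ∈ H, g * S.τ x * g⁻¹ = S.τ y := by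
  obtain ⟨y, hy, e⟩ := (mem_normalizer_iff.1 hg (S.τ x)).1 ⟨x, hx, rfl⟩
  exact ⟨y, hy, e.symm⟩

theorem normal_of {H : Subgroup T0} (h : ∀ x t : T0, x ∈ H → t * x * t⁻¹ ∈ H) : H.Normal :=
  ⟨fun x hx t => h x t hx⟩

theorem subA_normal : subA.Normal :=
  normal_of (show ∀ x t : T0, inA x → inA (t * x * t⁻¹) by decide +kernel)

theorem subB_normal : subB.Normal :=
  normal_of (show ∀ x t : T0, inB x → inB (t * x * t⁻¹) by decide +kernel)

theorem subJ_normal : subJ.Normal :=
  normal_of (show ∀ x t : T0, inJ x → inJ (t * x * t⁻¹) by decide +kernel)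

theorem subE_normal : subE.Normal :=
  normal_of (show ∀ x t : T0, inE x → inE (t * x * t⁻¹) by decide +kernel)

theorem ne_bot_of {H : Subgroup T0} {x : T0} (hx : x ∈ H) (h1 : x ≠ 1) : H ≠ ⊥ :=
  fun e => h1 (mem_bot.1 (e ▸ hx))

/-! ### The normaliser of `D₈ × D₈` -/

theorem center_J : ∀ x : T0, inJ x → (∀ y : T0, inJ y → x * y = y * x) → inZ2 x := by decide +kernel

/-- Conjugation by an element of `N(J)` fixes `τ ZZ`. -/
theorem conj_ZZ_J {g : G} (hg : g ∈ normalizer (subJ.map S.τ : Set G)) :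
    g * S.τ ZZ * g⁻¹ = S.τ ZZ := by
  obtain ⟨w, hw, e⟩ := S.exists_pull hg ZZ (by rfl)
  have hcen : ∀ y : T0, inJ y → w * y = y * w := fun y hy => S.τ_commute.1 (by
    obtain ⟨y', hy', e'⟩ := S.exists_pull (inv_mem hg) y hy
    have h : Commute (S.τ ZZ) (S.τ y') := S.τ_commute.2 (comm_ZZ y').symm
    have h2 := (Commute.conj_iff g).2 h
    rw [e, ← e', show g * (g⁻¹ * S.τ y * g⁻¹⁻¹) * g⁻¹ = S.τ y by group] at h2
    exact h2)
  have hw1 : w ≠ 1 := by
    rintro rfl
    rw [map_one, mul_inv_eq_one, mul_eq_left] at e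
    exact S.τ_ne_one (by decide) e
  have hbad : ∀ v : T0, (∃ x y : T0, inJ x ∧ inJ y ∧ x * x = v ∧ y * y = v ∧ x * y ≠ y * x) →
      g * S.τ ZZ * g⁻¹ ≠ S.τ v := by
    rintro v ⟨x, y, hx, hy, hx2, hy2, hne⟩ he
    obtain ⟨x', hx', ex⟩ := S.exists_pull (inv_mem hg) x hx
    obtain ⟨y', hy', ey⟩ := S.exists_pull (inv_mem hg) y hy
    have hsq : ∀ a a' : T0, g⁻¹ * S.τ a * g⁻¹⁻¹ = S.τ a' → a * a = v → a' * a' = ZZ := by
      intro a a' ea ha
      refine S.τ_inj ?_
      rw [map_mul, ← ea, conj_mul, ← map_mul, ha, ← he]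
      group
    have := root_ZZ x' y' hx' (hsq x x' ex hx2) hy' (hsq y y' ey hy2)
    refine hne (S.τ_commute.1 ?_)
    have h2 := (Commute.conj_iff g).2 (S.τ_commute.2 this)
    rw [← ex, ← ey, show g * (g⁻¹ * S.τ x * g⁻¹⁻¹) * g⁻¹ = S.τ x by group,
      show g * (g⁻¹ * S.τ y * g⁻¹⁻¹) * g⁻¹ = S.τ y by group] at h2
    exact h2
  have hfour : ∀ w : T0, inZ2 w → w ≠ 1 → w = Z1 ∨ w = Z2 ∨ w = ZZ := by decide +kernel
  rcases hfour w (center_J w hw hcen) hw1 with rfl | rfl | rfl
  · exact absurd e (hbad _ root_Z1)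
  · exact absurd e (hbad _ root_Z2)
  · exact e

/-- An element of odd order normalising `J` centralises it. -/
theorem commute_J {u : G} (hu : Odd (orderOf u)) (huN : u ∈ normalizer (subJ.map S.τ : Set G)) :
    ∀ x : T0, inJ x → Commute u (S.τ x) := by
  have hfour : ∀ x : T0, inZ2 x → x = 1 ∨ x = ZZ ∨ x = Z1 ∨ x = Z2 := by decide +kernel
  -- the square fixes the centre pointwise
  have hzz : Commute u (S.τ ZZ) := mul_inv_eq_iff_eq_mul.1 (S.conj_ZZ_J huN)
  have hz1 : Commute u (S.τ Z1) := by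
    have hstep : ∀ g ∈ normalizer (subJ.map S.τ : Set G),
        g * S.τ Z1 * g⁻¹ = S.τ Z1 ∨ g * S.τ Z1 * g⁻¹ = S.τ Z2 := by
      intro g hg
      obtain ⟨w, hw, e⟩ := S.exists_pull hg Z1 (by rfl)
      have hcen : ∀ y : T0, inJ y → w * y = y * w := fun y hy => S.τ_commute.1 (by
        obtain ⟨y', hy', e'⟩ := S.exists_pull (inv_mem hg) y hy
        have h : Commute (S.τ Z1) (S.τ y') :=
          S.τ_commute.2 ((comm_Z1_iff y').2 hy').symm
        have h2 := (Commute.conj_iff g).2 h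
        rw [e, ← e', show g * (g⁻¹ * S.τ y * g⁻¹⁻¹) * g⁻¹ = S.τ y by group] at h2
        exact h2)
      rcases hfour w (center_J w hw hcen) with rfl | rfl | rfl | rfl
      · rw [map_one, mul_inv_eq_one, mul_eq_left] at e
        exact absurd e (S.τ_ne_one (by decide))
      · rw [← S.conj_ZZ_J hg] at e
        exact absurd (S.τ_inj (mul_left_cancel (mul_right_cancel e))) (by decide)
      · exact Or.inl e
      · exact Or.inr e
    refine commute_of_sq hu ?_
    rcases hstep u huN with h | h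
    · have h' : Commute u (S.τ Z1) := mul_inv_eq_iff_eq_mul.1 h
      exact h'.mul_left h'
    · refine mul_inv_eq_iff_eq_mul.1 ?_
      have hZ2 : Z2 = Z1 * ZZ := by decide
      rw [show u * u * S.τ Z1 * (u * u)⁻¹ = u * (u * S.τ Z1 * u⁻¹) * u⁻¹ by group, h, hZ2, map_mul,
        ← conj_mul, h, S.conj_ZZ_J huN, ← map_mul]
      exact congrArg S.τ (by decide)
  have hz2 : Commute u (S.τ Z2) := by
    rw [show Z2 = Z1 * ZZ by decide, map_mul]; exact hz1.mul_right hzz
  have hfix : ∀ r ∈ subZ2.map S.τ, Commute u r := by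
    rintro _ ⟨x, hx, rfl⟩
    rcases hfour x hx with rfl | rfl | rfl | rfl
    · rw [map_one]; exact Commute.one_right u
    all_goals assumption
  -- invariance of the two factors
  have main : ∀ (Xp : T0 → Bool) (c : T0), Commute u (S.τ c) →
      (∀ x : T0, inJ x → (Xp x ↔ ∀ y : T0, inJ y → cm x y = 1 ∨ cm x y = c)) →
      (∀ x : T0, Xp x → inJ x) →
      (∀ x y : T0, Xp x → x * x ≠ 1 → Xp y → y * y ≠ 1 → inZ2 (y * x⁻¹)) →
      (∀ x : T0, Xp x → ∀ y : T0, Xp y → ∀ w : T0, Xp w →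
        (!(x * x == 1 && y * y == 1 && w * w == 1) || inZ2 x || inZ2 y || inZ2 w ||
          inZ2 (y * x⁻¹) || inZ2 (w * y⁻¹) || inZ2 (w * x⁻¹)) = true) →
      ∀ x : T0, Xp x → Commute u (S.τ x) := by
    intro Xp c hc hiff hJ hsq hthree x hx
    have hinv : ∀ g ∈ normalizer (subJ.map S.τ : Set G), Commute g (S.τ c) → ∀ a a' : T0,
        g * S.τ a * g⁻¹ = S.τ a' → inJ a' → Xp a → Xp a' := by
      intro g hg hgc a a' e ha' ha
      refine (hiff a' ha').2 fun y hy => ?_
      obtain ⟨y', hy', e'⟩ := S.exists_pull (inv_mem hg) y hy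
      have e'' : g * S.τ y' * g⁻¹ = S.τ y := by rw [← e']; group
      have key : S.τ (cm a' y) = g * S.τ (cm a y') * g⁻¹ := by
        rw [S.τ_cm, S.τ_cm, ← e, ← e'']; group
      rcases (hiff a (hJ a ha)).1 ha y' hy' with h | h <;> rw [h] at key
      · exact Or.inl (S.τ_inj (by rw [key, map_one]; group))
      · exact Or.inr (S.τ_inj (key.trans (by rw [hgc.eq]; group)))
    obtain ⟨y, hy, ey⟩ := S.exists_pull huN x (hJ x hx)
    obtain ⟨w, hw, ew⟩ := S.exists_pull huN y hy
    have hXy := hinv u huN hc x y ey hy hx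
    have hXw := hinv u huN hc y w ew hw hXy
    have hsqeq : ∀ a a' : T0, u * S.τ a * u⁻¹ = S.τ a' → (a * a = 1 ↔ a' * a' = 1) := by
      intro a a' e
      rw [← S.τ_inj.eq_iff, ← S.τ_inj.eq_iff (a := a' * a'), map_one, map_mul, map_mul, ← e, conj_mul,
        conj_eq_one_iff]
    have hZ : ∀ a a' : T0, u * S.τ a * u⁻¹ = S.τ a' → inZ2 (a' * a⁻¹) → Commute u (S.τ a) := by
      intro a a' e h
      refine commute_of_series (S.isPGroup_map subZ2) hu hfix ?_
      rw [e, ← map_inv, ← map_mul]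
      exact ⟨_, h, rfl⟩
    by_cases hx2 : x * x = 1
    swap
    · exact hZ x y ey (hsq x y hx hx2 hXy fun h => hx2 ((hsqeq x y ey).2 h))
    have hy2 := (hsqeq x y ey).1 hx2
    have hw2 := (hsqeq y w ew).1 hy2
    have h := hthree x hx y hXy w hXw
    simp only [hx2, hy2, hw2, beq_self_eq_true, Bool.and_self, Bool.not_true, Bool.false_or,
      Bool.or_eq_true] at h
    have back : ∀ a a' : T0, u * S.τ a * u⁻¹ = S.τ a' → inZ2 a' → Commute u (S.τ a) := by
      intro a a' e ha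
      have h2 := hfix _ ⟨a', ha, rfl⟩
      have : S.τ a = S.τ a' := by
        have h3 : u * S.τ a' * u⁻¹ = S.τ a' := by rw [h2.eq]; group
        exact mul_left_cancel (mul_right_cancel (e.trans h3.symm))
      rw [this]; exact h2
    rcases h with ((((h | h) | h) | h) | h) | h
    · exact hfix _ ⟨x, h, rfl⟩
    · exact back x y ey h
    · have := back y w ew h
      have h3 : u * S.τ y * u⁻¹ = S.τ y := by rw [this.eq]; group
      exact mul_inv_eq_iff_eq_mul.1 (ey.trans (mul_left_cancel (mul_right_cancel (ey.trans h3.symm))).symm)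
    · exact hZ x y ey h
    · have h2 := hZ y w ew h
      have h3 : u * S.τ y * u⁻¹ = S.τ y := by rw [h2.eq]; group
      exact mul_inv_eq_iff_eq_mul.1 (ey.trans (mul_left_cancel (mul_right_cancel (ey.trans h3.symm))).symm)
    · refine commute_of_sq hu ?_
      refine commute_of_series (S.isPGroup_map subZ2) (odd_sq hu)
        (fun r hr => (hfix r hr).mul_left (hfix r hr)) ?_
      rw [show u * u * S.τ x * (u * u)⁻¹ = u * (u * S.τ x * u⁻¹) * u⁻¹ by group, ey, ew, ← map_inv,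
        ← map_mul]
      exact ⟨_, h, rfl⟩
  intro x hx
  obtain ⟨h1, h2, e⟩ := inJ_split x hx
  rw [e, map_mul]
  exact (main inX1 Z1 hz1 inX1_iff (by decide +kernel) inX1_sq inX1_three _ h1).mul_right
    (main inX2 Z2 hz2 inX2_iff (by decide +kernel) inX2_sq inX2_three _ h2)

/-- `N(J) = T`. -/
theorem normalizer_J : normalizer (subJ.map S.τ : Set G) = (S.T : Subgroup G) := by
  haveI := Fact.mk Nat.prime_two
  refine S.le_T_of_isPGroup (Balance.isPGroup_of_forall_coprime_eq_one fun u hu hco => ?_)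
    (S.T_le_normalizer subJ_normal)
  have hodd : Odd (orderOf u) := Nat.coprime_two_right.1 hco
  exact S.eq_one_of_cent subJ_normal (ne_bot_of (x := Z1) (by rfl) (by decide))
    (fun t h => cent_inJ t h) hodd (fun x hx => S.commute_J hodd hu x hx)

/-- A 2-subgroup of `C(τ Z1)` containing `J` is `J`. -/
theorem eq_J_of_cent_Z1 {P : Subgroup G} (hP : IsPGroup 2 ↥P)
    (hle : P ≤ centralizer ({S.τ Z1} : Set G)) (hJ : subJ.map S.τ ≤ P) : P = subJ.map S.τ := by
  haveI := Fact.mk Nat.prime_two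
  by_contra hne
  haveI := hP.isNilpotent
  obtain ⟨⟨p, hp⟩, hpN, hpJ⟩ := SetLike.exists_of_lt (Group.normalizerCondition_of_isNilpotent
    ((subJ.map S.τ).subgroupOf P) (lt_top_iff_ne_top.2 fun e => hne (le_antisymm (subgroupOf_eq_top.1 e) hJ)))
  have hpN' : p ∈ normalizer (subJ.map S.τ : Set G) := by
    refine mem_normalizer_iff.2 fun g => ⟨fun hg => ?_, fun hg => ?_⟩
    · exact ((mem_normalizer_iff.1 hpN ⟨g, hJ hg⟩).1 hg : _)
    · have hgP : g ∈ P := by
        have := mul_mem (mul_mem (inv_mem hp) (hJ hg)) hp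
        rwa [show p⁻¹ * (p * g * p⁻¹) * p = g by group] at this
      exact (mem_normalizer_iff.1 hpN ⟨g, hgP⟩).2 hg
  rw [S.normalizer_J, S.mem_T] at hpN'
  obtain ⟨x, rfl⟩ := hpN'
  exact hpJ ⟨x, (comm_Z1_iff x).1 (S.τ_commute.1 (mem_centralizer_singleton_iff.1 (hle hp))), rfl⟩

theorem card_J : Nat.card (subJ.map S.τ) = 64 := by
  have : Fintype.card {x : T0 // inJ x = true} = 64 := by decide +kernel
  rw [S.card_map, ← this, ← Nat.card_eq_fintype_card]
  exact Nat.card_congr (Equiv.subtypeEquivRight fun _ => Iff.rfl)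

theorem J_le_cent : subJ.map S.τ ≤ centralizer ({S.τ Z1} : Set G) := by
  rintro _ ⟨x, hx, rfl⟩
  exact mem_centralizer_singleton_iff.2 (S.τ_commute.2 ((comm_Z1_iff x).2 hx))

/-- Every 2-subgroup of `C(τ Z1)` has order at most 64. -/
theorem card_le_cent_Z1 {P : Subgroup G} (hP : IsPGroup 2 ↥P)
    (hle : P ≤ centralizer ({S.τ Z1} : Set G)) : Nat.card P ≤ 64 := by
  haveI := Fact.mk Nat.prime_two
  set C := centralizer ({S.τ Z1} : Set G) with hC
  obtain ⟨Q, hQ⟩ := ((S.isPGroup_map subJ).comap_subtype (K := C)).exists_le_sylow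
  have hQJ : ((Q : Subgroup C).map C.subtype) = subJ.map S.τ := by
    refine S.eq_J_of_cent_Z1 (Q.2.map _) (map_subtype_le _) ?_
    intro x hx
    exact ⟨⟨x, S.J_le_cent hx⟩, hQ hx, rfl⟩
  obtain ⟨R, hR⟩ := (hP.comap_subtype (K := C)).exists_le_sylow
  calc Nat.card P = Nat.card (P.subgroupOf C) := (Nat.card_congr (subgroupOfEquivOfLe hle).toEquiv).symm
    _ ≤ Nat.card (R : Subgroup C) := Subgroup.card_le_of_le hR
    _ = Nat.card (Q : Subgroup C) := Nat.card_congr (R.equiv Q).toEquiv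
    _ = Nat.card ((Q : Subgroup C).map C.subtype) :=
        Nat.card_congr ((Q : Subgroup C).equivMapOfInjective _ C.subtype_injective).toEquiv
    _ = 64 := by rw [hQJ, S.card_J]

/-- The two classes of central involutions are distinct. -/
theorem not_conj_Z1_ZZ : ¬ IsConj (S.τ Z1) (S.τ ZZ) := by
  intro h
  obtain ⟨g, hg⟩ := isConj_iff.1 h
  have hle : (S.T : Subgroup G).map (MulAut.conj g⁻¹).toMonoidHom ≤ centralizer ({S.τ Z1} : Set G) := by
    rintro _ ⟨t, ht, rfl⟩
    obtain ⟨x, rfl⟩ := S.mem_T.1 ht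
    refine mem_centralizer_singleton_iff.2 ?_
    show g⁻¹ * S.τ x * g⁻¹⁻¹ * S.τ Z1 = S.τ Z1 * (g⁻¹ * S.τ x * g⁻¹⁻¹)
    have h2 := ((Commute.conj_iff g⁻¹).2 (S.τ_commute.2 (comm_ZZ x))).eq
    rw [← hg, show g⁻¹ * (g * S.τ Z1 * g⁻¹) * g⁻¹⁻¹ = S.τ Z1 by group] at h2
    exact h2
  have h1 := S.card_le_cent_Z1 (S.T.2.map _) hle
  rw [Nat.card_congr ((S.T : Subgroup G).equivMapOfInjective _ (MulAut.conj g⁻¹).injective).toEquiv.symm,
    S.card_T] at h1
  omega

end Cfg

end Cfsg.Agent.S4WreathLocal
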