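import Cfsg.Agent.Lib.S4WreathLocal.Cent2
import Cfsg.Agent.Lib.S4WreathLocal.Facts3

/-!
# `U × U` is weakly closed and controls the fusion of its elements
-/

set_option autoImplicit false
set_option linter.style.haveILetI false
set_option linter.unusedSectionVars false

namespace Cfsg.Agent.S4WreathLocal

open Subgroup Cfsg.Agent
open scoped Pointwise

namespace Cfg

variable {G : Type*} [Group G] [Finite G] (S : Cfg G) (hO : Cfsg.pResidual 2 G = ⊤)

include hO in
/-- `N(T) = T`. -/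
theorem normalizer_T : normalizer ((S.T : Subgroup G) : Set G) = (S.T : Subgroup G) := by
  haveI := Fact.mk Nat.prime_two
  refine S.le_T_of_isPGroup (Balance.isPGroup_of_forall_coprime_eq_one fun u hu hco => ?_) le_normalizer
  have hodd : Odd (orderOf u) := Nat.coprime_two_right.1 hco
  have hpull : ∀ x : T0, ∃ y : T0, u * S.τ x * u⁻¹ = S.τ y := fun x =>
    (S.mem_T.1 ((mem_normalizer_iff.1 hu _).1 (S.τ_mem x))).imp fun _ h => h.symm
  have hpush : ∀ y : T0, ∃ x : T0, u * S.τ x * u⁻¹ = S.τ y := fun y => by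
    obtain ⟨x, hx⟩ := S.mem_T.1 ((mem_normalizer_iff.1 (inv_mem hu) _).1 (S.τ_mem y))
    exact ⟨x, by rw [hx]; group⟩
  have hzz : Commute u (S.τ ZZ) := by
    obtain ⟨w, hw⟩ := hpull ZZ
    have hcen : inZ w := center_T0 w fun y => S.τ_commute.1 (by
      obtain ⟨x, hx⟩ := hpush y
      rw [← hw, ← hx]
      exact (Commute.conj_iff u).2 (S.τ_commute.2 (comm_ZZ x).symm))
    simp only [inZ, Bool.or_eq_true, beq_iff_eq] at hcen
    rcases hcen with rfl | rfl
    · rw [map_one] at hw
      exact absurd (conj_eq_one_iff.1 hw) (S.τ_ne_one (by decide))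
    · exact mul_inv_eq_iff_eq_mul.1 hw
  have huC : u ∈ S.C := S.mem_C.2 hzz
  have hsq : Commute (u * u) (S.τ Z1) := by
    obtain ⟨x, hx⟩ := hpull Z1
    have ho : S.Orb x := ⟨u, huC, hx⟩
    have hcard : centCard Z1 ≤ centCard x := by
      choose f hf using hpull
      refine Finset.card_le_card_of_injOn f ?_ fun a _ b _ hab => S.τ_inj (mul_left_cancel
        (mul_right_cancel ((hf a).trans ((congrArg S.τ hab).trans (hf b).symm))))
      intro t ht
      simp only [Finset.coe_filter, Finset.mem_univ, true_and, Set.mem_setOf_eq] at ht ⊢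
      refine S.τ_commute.1 ?_
      rw [← hf t, ← hx]
      exact (Commute.conj_iff u).2 (S.τ_commute.2 ht)
    have := (S.orb_iff hO x).1 ho
    simp only [Bool.or_eq_true, beq_iff_eq] at this
    rcases this with (rfl | rfl) | h
    · have h : Commute u (S.τ Z1) := mul_inv_eq_iff_eq_mul.1 hx
      exact h.mul_left h
    · refine mul_inv_eq_iff_eq_mul.1 ?_
      rw [show u * u * S.τ Z1 * (u * u)⁻¹ = u * (u * S.τ Z1 * u⁻¹) * u⁻¹ by group, hx,
        show Z2 = Z1 * ZZ by decide, map_mul, ← conj_mul, hx, S.C_conj_ZZ huC, ← map_mul]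
      exact congrArg S.τ (by decide)
    · rw [centCard_orbit.1, centCard_orbit.2 x h] at hcard
      omega
  obtain ⟨j, -, hj⟩ := S.cent_Z1_in_C hO huC (commute_of_sq hodd hsq)
  exact Balance.eq_one_of_mem_pGroup_of_coprime S.T.2 (hj ▸ S.τ_mem j) (odd_of hodd)

theorem eq_T_of_card {P : Subgroup G} (hP : IsPGroup 2 ↥P) (hcard : Nat.card P = 128)
    (hJ : subJ.map S.τ ≤ P) : P = (S.T : Subgroup G) := by
  have hidx : ((subJ.map S.τ).subgroupOf P).index = 2 := by
    have := card_mul_index ((subJ.map S.τ).subgroupOf P)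
    rw [Nat.card_congr (subgroupOfEquivOfLe hJ).toEquiv, S.card_J, hcard] at this
    omega
  haveI := normal_of_index_eq_two hidx
  have hle : P ≤ normalizer (subJ.map S.τ : Set G) :=
    (normal_subgroupOf_iff_le_normalizer hJ).1 inferInstance
  rw [S.normalizer_J] at hle
  exact Subgroup.eq_of_le_of_card_ge hle (by rw [S.card_T, hcard])

theorem card_subB : Nat.card (subB.map S.τ) = 16 := by
  rw [S.card_map, ← card_inB.2.1, ← Nat.card_eq_fintype_card]
  exact Nat.card_congr (Equiv.subtypeEquivRight fun _ => Iff.rfl)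

include hO in
/-- An element moving `U × U` into `T` normalises it. -/
theorem mem_normalizer_B {g : G} (hg : ∀ x : T0, inB x → g * S.τ x * g⁻¹ ∈ (S.T : Subgroup G)) :
    g ∈ normalizer (subB.map S.τ : Set G) := by
  haveI := Fact.mk Nat.prime_two
  have hf : ∀ x : {x : T0 // inB x}, ∃ y : T0, g * S.τ x * g⁻¹ = S.τ y := fun x =>
    (S.mem_T.1 (hg x x.2)).imp fun _ h => h.symm
  choose f hf using hf
  have hfinj : Function.Injective f := fun a b h => Subtype.ext (S.τ_inj (mul_left_cancel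
    (mul_right_cancel ((hf a).trans ((congrArg S.τ h).trans (hf b).symm)))))
  have hcomm : ∀ a b, f a * f b = f b * f a := fun a b => S.τ_commute.1 (by
    rw [← hf a, ← hf b]
    exact (Commute.conj_iff g).2 (S.τ_commute.2
      ((show ∀ x y : T0, inB x → inB y → x * y = y * x by decide +kernel) a b a.2 b.2)))
  have hsq : ∀ a, f a * f a = 1 := fun a => S.τ_inj (by
    rw [map_mul, ← hf a, conj_mul, ← map_mul,
      (show ∀ x : T0, inB x → x * x = 1 by decide +kernel) a a.2, map_one]; group)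
  set R := Finset.univ.image f with hR
  have hcardR : R.card = 16 := by
    rw [Finset.card_image_of_injective _ hfinj, Finset.card_univ]
    exact card_inB.2.1
  have hJ : ∀ a, inJ (f a) := by
    intro a
    by_contra h
    have hS : isS (f a) := notJ_inE_inv _ (by simpa using h) (hsq a)
    obtain ⟨t, ht, htne⟩ := isS_cent _ hS
    have hsub : R ⊆ Finset.univ.filter fun t => t * f a = f a * t := by
      intro y hy
      obtain ⟨b, -, rfl⟩ := Finset.mem_image.1 hy
      simp [hcomm b a]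
    have hEq := Finset.eq_of_subset_of_card_le hsub (by
      rw [hcardR]; exact (centCard_S _ hS).le)
    obtain ⟨b, -, rfl⟩ := Finset.mem_image.1 (hEq ▸ (by simp [ht]) : t ∈ R)
    exact htne (hsq b)
  -- both projections lie in one four-group
  have hside : ∀ p : T0 → D, (∀ x y : T0, inJ x → inJ y → p (x * y) = p x * p y) → p 1 = 1 →
      (∀ a, inV (p (f a))) ∨ (∀ a, inU (p (f a))) := by
    intro p hp hp1
    by_cases h : ∀ a, inV (p (f a))
    · exact Or.inl h
    push_neg at h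
    obtain ⟨a, ha⟩ := h
    refine Or.inr fun b => ?_
    have hs : ∀ c, p (f c) * p (f c) = 1 := fun c => by rw [← hp _ _ (hJ c) (hJ c), hsq c, hp1]
    have := comm_inv_pair _ _ (hs a) (hs b) (by
      rw [← hp _ _ (hJ a) (hJ b), ← hp _ _ (hJ b) (hJ a), hcomm a b])
    simp only [Bool.or_eq_true, Bool.and_eq_true] at this
    rcases this with h' | h'
    · exact absurd h'.1 ha
    · exact h'.2
  have hmulJ : ∀ x y : T0, inJ x → inJ y → (x * y).a = x.a * y.a ∧ (x * y).b = x.b * y.b := by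
    rintro ⟨a, b, s⟩ ⟨a', b', s'⟩ h h'
    simp only [inJ, Bool.not_eq_true'] at h h'
    subst h h'
    simp [Wr.mul_def]
  have hA := hside (fun x => x.a) (fun x y hx hy => (hmulJ x y hx hy).1) rfl
  have hB := hside (fun x => x.b) (fun x y hx hy => (hmulJ x y hx hy).2) rfl
  -- the image as a whole
  have himage : ∀ P : T0 → Bool, Fintype.card {x : T0 // P x} = 16 → (∀ a, P (f a)) →
      ∀ y : T0, P y → ∃ a, f a = y := by
    intro P hP hall y hy
    have hEq := Finset.eq_of_subset_of_card_le (s := R) (t := Finset.univ.filter fun y => P y = true)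
      (fun y hy => by obtain ⟨b, -, rfl⟩ := Finset.mem_image.1 hy; simp [hall b])
      (by rw [hcardR, ← Fintype.card_subtype]; exact hP.le)
    obtain ⟨b, -, hb⟩ := Finset.mem_image.1 (hEq ▸ (by simp [hy]) : y ∈ R)
    exact ⟨b, hb⟩
  have hJs : ∀ a, (f a).s = false := fun a => by simpa [inJ] using hJ a
  -- the crossed four-groups
  have hcross : ∀ P : T0 → Bool, Fintype.card {x : T0 // P x} = 16 → (∀ a, P (f a)) →
      (∀ j : T0, inJ j → ∀ x : T0, P x → P (j * x * j⁻¹)) → (∃ x : T0, P x ∧ !P (SW * x * SW⁻¹)) → False := by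
    intro P hP hall hJP hnn
    have hiff : ∀ w : G, w ∈ (subB.map S.τ).map (MulAut.conj g).toMonoidHom ↔ ∃ y : T0, P y ∧ S.τ y = w := by
      intro w
      constructor
      · rintro ⟨_, ⟨x, hx, rfl⟩, rfl⟩
        exact ⟨f ⟨x, hx⟩, hall _, (hf ⟨x, hx⟩).symm⟩
      · rintro ⟨y, hy, rfl⟩
        obtain ⟨a, rfl⟩ := himage P hP hall y hy
        exact ⟨S.τ a, ⟨a, a.2, rfl⟩, hf a⟩
    set H := (subB.map S.τ).map (MulAut.conj g).toMonoidHom with hH
    set N := normalizer (H : Set G) with hN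
    have hTN : (S.T : Subgroup G).map (MulAut.conj g).toMonoidHom ≤ N :=
      (map_mono (S.T_le_normalizer subB_normal)).trans (le_normalizer_map _)
    have hJN : subJ.map S.τ ≤ N := by
      rw [hN, le_normalizer_iff]
      rintro _ ⟨j, hj, rfl⟩ w hw
      obtain ⟨y, hy, rfl⟩ := (hiff w).1 hw
      exact (hiff _).2 ⟨j * y * j⁻¹, hJP j hj y hy, by simp⟩
    obtain ⟨P2, hP2⟩ := ((S.isPGroup_map subJ).comap_subtype (K := N)).exists_le_sylow
    obtain ⟨R2, hR2⟩ := ((S.T.2.map (MulAut.conj g).toMonoidHom).comap_subtype (K := N)).exists_le_sylow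
    have h128 : Nat.card ((S.T : Subgroup G).map (MulAut.conj g).toMonoidHom) = 128 := by
      rw [← Nat.card_congr ((S.T : Subgroup G).equivMapOfInjective _ (MulAut.conj g).injective).toEquiv, S.card_T]
    have hge : 128 ≤ Nat.card ((P2 : Subgroup N).map N.subtype) := by
      rw [← Nat.card_congr ((P2 : Subgroup N).equivMapOfInjective _ N.subtype_injective).toEquiv,
        ← Nat.card_congr (R2.equiv P2).toEquiv, ← h128, ← Nat.card_congr (subgroupOfEquivOfLe hTN).toEquiv]
      exact Subgroup.card_le_of_le hR2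
    have hle : Nat.card ((P2 : Subgroup N).map N.subtype) ≤ 128 := by
      obtain ⟨U, hU⟩ := (P2.2.map N.subtype).exists_le_sylow
      rw [← S.card_T, Nat.card_congr (S.T.equiv U).toEquiv]
      exact Subgroup.card_le_of_le hU
    have hTeq := S.eq_T_of_card (P2.2.map N.subtype) (le_antisymm hle hge)
      (fun x hx => ⟨⟨x, hJN hx⟩, hP2 hx, rfl⟩)
    obtain ⟨x, hx, hxn⟩ := hnn
    have hSW : S.τ SW ∈ N := by
      have := S.τ_mem SW
      rw [← hTeq] at this
      exact map_subtype_le _ this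
    obtain ⟨y, hy, ey⟩ := (hiff _).1 ((mem_normalizer_iff.1 hSW _).1 ((hiff _).2 ⟨x, hx, rfl⟩))
    rw [← map_inv, ← map_mul, ← map_mul] at ey
    rw [S.τ_inj ey] at hy
    simp [hy] at hxn
  rcases hA with hA | hA <;> rcases hB with hB | hB
  · -- `V × V`
    exfalso
    have hall : ∀ a, inA (f a) := fun a => by simp [inA, hJs, hA a, hB a]
    have hcard := card_four_elementary.1
    have hH : (subB.map S.τ).map (MulAut.conj g).toMonoidHom = subA.map S.τ := by
      refine le_antisymm ?_ ?_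
      · rintro _ ⟨_, ⟨x, hx, rfl⟩, rfl⟩
        exact ⟨f ⟨x, hx⟩, hall _, (hf ⟨x, hx⟩).symm⟩
      · rintro _ ⟨y, hy, rfl⟩
        obtain ⟨a, rfl⟩ := himage inA hcard hall y hy
        exact ⟨S.τ a, ⟨a, a.2, rfl⟩, hf a⟩
    set N := normalizer (subA.map S.τ : Set G) with hN
    have h1 : (S.T : Subgroup G) ≤ N := S.T_le_normalizer subA_normal
    have h2 : ((g • S.T : Sylow 2 G) : Subgroup G) ≤ N := by
      rw [hN, ← hH]
      intro x hx
      have : x ∈ (S.T : Subgroup G).map (MulAut.conj g).toMonoidHom := hx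
      exact le_normalizer_map _ (map_mono (S.T_le_normalizer subB_normal) this)
    obtain ⟨⟨h, hh⟩, hht⟩ := MulAction.exists_smul_eq N ((g • S.T).subtype h2) (S.T.subtype h1)
    rw [Sylow.smul_subtype] at hht
    have hT : h • g • S.T = S.T := Sylow.subtype_injective hht
    rw [← mul_smul, Sylow.smul_eq_iff_mem_normalizer, SetLike.mem_coe.symm] at hT
    have hT' : h * g ∈ normalizer ((S.T : Subgroup G) : Set G) := hT
    rw [S.normalizer_T hO] at hT'
    have hB' := S.T_le_normalizer subB_normal hT'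
    obtain ⟨y, hy, hyB⟩ : ∃ y : T0, inA y ∧ !inB y := ⟨V1e, by rfl, by rfl⟩
    obtain ⟨a, rfl⟩ := himage inA hcard hall y hy
    obtain ⟨b, hb, eb⟩ := (mem_normalizer_iff.1 hh (S.τ (f a))).1 ⟨f a, hy, rfl⟩
    obtain ⟨c, hc, ec⟩ := S.exists_pull (H := subB) hB' a a.2
    have hbc : b = c := S.τ_inj (by rw [eb, ← ec, ← hf a]; group)
    -- every element of `V × V` is carried into `U × U` and back
    have hback : ∀ w : T0, inA w → inB w := by
      intro w hw
      obtain ⟨w', hw', ew'⟩ := S.exists_pull (H := subA) (inv_mem hh) w hw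
      obtain ⟨a', rfl⟩ := himage inA hcard hall w' hw'
      obtain ⟨c', hc', ec'⟩ := S.exists_pull (H := subB) hB' a' a'.2
      have : w = c' := S.τ_inj (by
        rw [← ec', show h * g * S.τ a' * (h * g)⁻¹ = h * (g * S.τ a' * g⁻¹) * h⁻¹ by group, hf a', ← ew']
        group)
      rw [this]; exact hc'
    simp [hback _ hy] at hyB
  · exact (hcross inVU card_four_elementary.2.1 (fun a => by simp [inVU, hJs, hA a, hB a])
      (fun j hj x hx => (cross_J j hj x).1 hx) cross_not_normal.1).elim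
  · exact (hcross inUV card_four_elementary.2.2 (fun a => by simp [inUV, hJs, hA a, hB a])
      (fun j hj x hx => (cross_J j hj x).2 hx) cross_not_normal.2).elim
  · have hall : ∀ a, inB (f a) := fun a => by simp [inB, hJs, hA a, hB a]
    refine mem_normalizer_iff.2 fun w => ⟨?_, ?_⟩
    · rintro ⟨x, hx, rfl⟩
      exact ⟨f ⟨x, hx⟩, hall _, (hf ⟨x, hx⟩).symm⟩
    · rintro ⟨y, hy, e⟩
      obtain ⟨a, rfl⟩ := himage inB card_inB.2.1 hall y hy
      refine ⟨a, a.2, ?_⟩
      exact (mul_left_cancel (mul_right_cancel ((hf a).trans e)))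

include hO in
/-- Fusion in `U × U` is controlled by its normaliser. -/
theorem fusion_B {a b : T0} (ha : inB a) (hb : inB b) {g : G} (h : g * S.τ a * g⁻¹ = S.τ b) :
    ∃ n ∈ normalizer (subB.map S.τ : Set G), n * S.τ a * n⁻¹ = S.τ b := by
  haveI := Fact.mk Nat.prime_two
  set Z : Subgroup G := centralizer ({S.τ b} : Set G) with hZ
  have hcomm : ∀ x y : T0, inB x → inB y → x * y = y * x := by decide +kernel
  have h1 : subB.map S.τ ≤ Z := by
    rintro _ ⟨x, hx, rfl⟩
    exact mem_centralizer_singleton_iff.2 (S.τ_commute.2 (hcomm x b hx hb))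
  have h2 : (subB.map S.τ).map (MulAut.conj g).toMonoidHom ≤ Z := by
    rintro _ ⟨_, ⟨x, hx, rfl⟩, rfl⟩
    refine mem_centralizer_singleton_iff.2 ?_
    rw [← h]
    exact ((Commute.conj_iff g).2 (S.τ_commute.2 (hcomm x a hx ha))).eq
  obtain ⟨P, hP⟩ := ((S.isPGroup_map subB).comap_subtype (K := Z)).exists_le_sylow
  obtain ⟨R, hR⟩ := (((S.isPGroup_map subB).map _).comap_subtype (K := Z)).exists_le_sylow
  obtain ⟨c, hc⟩ := MulAction.exists_smul_eq Z R P
  obtain ⟨U, hU⟩ := (P.2.map Z.subtype).exists_le_sylow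
  obtain ⟨k, hk⟩ := MulAction.exists_smul_eq G U S.T
  have hkP : ∀ p ∈ (P : Subgroup Z), k * (p : G) * k⁻¹ ∈ (S.T : Subgroup G) := fun p hp => by
    rw [← hk]
    exact ⟨(p : G), hU ⟨p, hp, rfl⟩, rfl⟩
  have hk1 : k ∈ normalizer (subB.map S.τ : Set G) := S.mem_normalizer_B hO fun x hx =>
    hkP ⟨S.τ x, h1 ⟨x, hx, rfl⟩⟩ (hP ⟨x, hx, rfl⟩)
  have hk2 : k * c * g ∈ normalizer (subB.map S.τ : Set G) := S.mem_normalizer_B hO fun x hx => by
    have hm : g * S.τ x * g⁻¹ ∈ (subB.map S.τ).map (MulAut.conj g).toMonoidHom := ⟨_, ⟨x, hx, rfl⟩, rfl⟩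
    have hm' : (⟨g * S.τ x * g⁻¹, h2 hm⟩ : Z) ∈ (R : Subgroup Z) := hR hm
    have hp : c * ⟨g * S.τ x * g⁻¹, h2 hm⟩ * c⁻¹ ∈ (P : Subgroup Z) := by
      rw [← hc]
      exact ⟨_, hm', rfl⟩
    have := hkP _ hp
    rwa [show k * (c : G) * g * S.τ x * (k * (c : G) * g)⁻¹ = k * ((c : G) * (g * S.τ x * g⁻¹) * (c : G)⁻¹) * k⁻¹ by
      group]
  refine ⟨k⁻¹ * (k * c * g), mul_mem (inv_mem hk1) hk2, ?_⟩
  rw [show k⁻¹ * (k * (c : G) * g) * S.τ a * (k⁻¹ * (k * (c : G) * g))⁻¹ =
    (c : G) * (g * S.τ a * g⁻¹) * (c : G)⁻¹ by group, h,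
    (mem_centralizer_singleton_iff.1 c.2 : (c : G) * S.τ b = S.τ b * c)]
  group

end Cfg

end Cfsg.Agent.S4WreathLocal
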